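import Cfsg.Agent.SuzFive.Frame
import Mathlib.GroupTheory.GroupAction.Quotient
import Mathlib.GroupTheory.QuotientGroup.Basic

/-!
The normaliser of the Sylow subgroup of order twenty-five.
-/

set_option autoImplicit false
set_option linter.style.haveILetI false
set_option maxRecDepth 100000

namespace CfsgLib.SuzFive

open Subgroup

universe u

variable {G : Type u} [Group G] {f x u : G} (F : Frame f x u)
include F

theorem Frame.conj_emb (n : G) {v w : V2} (hv : n * f * n⁻¹ = emb f x v) (hw : n * x * n⁻¹ = emb f x w) (p : V2) :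
    n * emb f x p * n⁻¹ = emb f x (app (v, w) p) := by
  calc n * emb f x p * n⁻¹ = (n * f * n⁻¹) ^ p.1.val * (n * x * n⁻¹) ^ p.2.val := by
        rw [conj_pow, conj_pow, emb]; group
    _ = emb f x (app (v, w) p) := by
        rw [hv, hw, F.emb_pow, F.emb_pow, ← F.emb_add]
        congr 1
        refine Prod.ext ?_ ?_ <;> simp [app, nsmul_eq_mul]

/-- The coordinates of the conjugation. -/
noncomputable def Frame.mu (n : normalizer (F.grp : Set G)) : M4 :=
  (Classical.choose (F.mem_grp.1 ((mem_normalizer_iff.1 n.2 f).1 F.f_mem)),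
    Classical.choose (F.mem_grp.1 ((mem_normalizer_iff.1 n.2 x).1 F.x_mem)))

theorem Frame.mu_spec (n : normalizer (F.grp : Set G)) (p : V2) :
    (n : G) * emb f x p * (n : G)⁻¹ = emb f x (app (F.mu n) p) :=
  F.conj_emb _ (Classical.choose_spec (F.mem_grp.1 ((mem_normalizer_iff.1 n.2 f).1 F.f_mem))).symm
    (Classical.choose_spec (F.mem_grp.1 ((mem_normalizer_iff.1 n.2 x).1 F.x_mem))).symm p

theorem Frame.mu_eq (n : normalizer (F.grp : Set G)) {v w : V2} (hv : (n : G) * f * (n : G)⁻¹ = emb f x v)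
    (hw : (n : G) * x * (n : G)⁻¹ = emb f x w) : F.mu n = (v, w) := by
  refine Prod.ext (F.emb_inj ?_) (F.emb_inj ?_)
  · exact (Classical.choose_spec (F.mem_grp.1 ((mem_normalizer_iff.1 n.2 f).1 F.f_mem))).trans hv
  · exact (Classical.choose_spec (F.mem_grp.1 ((mem_normalizer_iff.1 n.2 x).1 F.x_mem))).trans hw

omit F in
theorem app_unit (m : M4) : app m (1, 0) = m.1 ∧ app m (0, 1) = m.2 := by simp [app]

theorem Frame.mu_fst (n : normalizer (F.grp : Set G)) : (n : G) * f * (n : G)⁻¹ = emb f x (F.mu n).1 := by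
  have h := F.mu_spec n (1, 0)
  rwa [emb_fst, (app_unit _).1] at h

theorem Frame.mu_snd (n : normalizer (F.grp : Set G)) : (n : G) * x * (n : G)⁻¹ = emb f x (F.mu n).2 := by
  have h := F.mu_spec n (0, 1)
  rwa [emb_snd, (app_unit _).2] at h

theorem Frame.mu_mul (n m : normalizer (F.grp : Set G)) : F.mu (n * m) = mm (F.mu n) (F.mu m) := by
  refine F.mu_eq _ ?_ ?_
  · calc ((n * m : normalizer (F.grp : Set G)) : G) * f * ((n * m : normalizer (F.grp : Set G)) : G)⁻¹
        = (n : G) * ((m : G) * f * (m : G)⁻¹) * (n : G)⁻¹ := by rw [Subgroup.coe_mul]; group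
      _ = emb f x (app (F.mu n) (F.mu m).1) := by rw [F.mu_fst, F.mu_spec]
  · calc ((n * m : normalizer (F.grp : Set G)) : G) * x * ((n * m : normalizer (F.grp : Set G)) : G)⁻¹
        = (n : G) * ((m : G) * x * (m : G)⁻¹) * (n : G)⁻¹ := by rw [Subgroup.coe_mul]; group
      _ = emb f x (app (F.mu n) (F.mu m).2) := by rw [F.mu_snd, F.mu_spec]

theorem Frame.mu_one : F.mu 1 = ((1, 0), (0, 1)) :=
  F.mu_eq 1 (by simp [emb_fst]) (by simp [emb_snd])

theorem Frame.mu_eq_one {n : normalizer (F.grp : Set G)} : F.mu n = ((1, 0), (0, 1)) ↔ (n : G) ∈ F.grp := by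
  constructor
  · intro h
    have h1 := F.mu_fst n
    have h2 := F.mu_snd n
    rw [h, emb_fst] at h1
    rw [h, emb_snd] at h2
    obtain ⟨v, hv⟩ := F.centP (n : G) (mul_inv_eq_iff_eq_mul.1 h1) (mul_inv_eq_iff_eq_mul.1 h2)
    exact F.mem_grp.2 ⟨v, hv.symm⟩
  · intro h
    refine F.mu_eq n ?_ ?_
    · rw [F.comm h F.f_mem, mul_inv_cancel_right, emb_fst]
    · rw [F.comm h F.x_mem, mul_inv_cancel_right, emb_snd]

theorem Frame.app_mu_ne (n : normalizer (F.grp : Set G)) {v : V2} (hv : v ≠ 0) : app (F.mu n) v ≠ 0 := fun e => hv <| by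
  have h := F.mu_spec n v
  rw [e, emb_zero, conj_eq_one_iff] at h
  exact F.emb_inj (h.trans emb_zero.symm)

theorem Frame.dt_ne (n : normalizer (F.grp : Set G)) : dt (F.mu n) ≠ 0 := by
  intro e
  have h := F.mu_mul n n⁻¹
  rw [mul_inv_cancel, F.mu_one] at h
  have h2 := congrArg dt h
  have hd : ∀ m m' : M4, dt (mm m m') = dt m * dt m' := fun m m' => by simp only [dt, mm, app]; ring
  rw [hd, e, zero_mul] at h2
  exact (show (1 : ZMod 5) ≠ 0 by decide) (by simpa [dt] using h2)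

/-- The action on the lines. -/
@[reducible] noncomputable def Frame.lines : MulAction (normalizer (F.grp : Set G)) (Fin 6) where
  smul n l := la (F.mu n) l
  one_smul l := by
    show la (F.mu 1) l = l
    rw [F.mu_one]
    exact (show ∀ l : Fin 6, la ((1, 0), (0, 1)) l = l by decide +kernel) l
  mul_smul n m l := by
    show la (F.mu (n * m)) l = la (F.mu n) (la (F.mu m) l)
    rw [F.mu_mul]
    show lineOf (app (mm _ _) (pt l)) = _
    rw [app_mm, la_mm _ (F.dt_ne n) _ (F.app_mu_ne m (pt_ne l))]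
    rfl

theorem Frame.emb_four : emb f x ((0, 4) : V2) = x⁻¹ := by
  have h := F.emb_scalar 4 ((0, 1) : V2)
  rw [emb_snd, show (4 : ZMod 5).val = 4 from rfl,
    show ((4 : ZMod 5) * ((0, 1) : V2).1, (4 : ZMod 5) * ((0, 1) : V2).2) = ((0, 4) : V2) by decide] at h
  rw [h]
  exact eq_inv_of_mul_eq_one_left (by rw [← pow_succ]; exact F.x5)

theorem Frame.u_norm : u ∈ normalizer (F.grp : Set G) := by
  have hu : u⁻¹ = u := inv_eq_of_mul_eq_one_right F.u2
  have key : ∀ v, u * emb f x v * u⁻¹ = emb f x (app ((1, 0), (0, 4)) v) := fun v =>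
    F.conj_emb u (by rw [F.uf, mul_inv_cancel_right, emb_fst]) (by rw [F.ux, F.emb_four]) v
  refine mem_normalizer_iff.2 fun h => ⟨fun hh => ?_, fun hh => ?_⟩
  · obtain ⟨v, rfl⟩ := F.mem_grp.1 hh
    exact F.mem_grp.2 ⟨_, (key v).symm⟩
  · obtain ⟨v, hv⟩ := F.mem_grp.1 hh
    refine F.mem_grp.2 ⟨app ((1, 0), (0, 4)) v, ?_⟩
    rw [← key, hv, hu]
    calc u * (u * h * u) * u = u * u * h * (u * u) := by group
      _ = h := by rw [F.u2, one_mul, mul_one]

theorem Frame.mu_u : F.mu ⟨u, F.u_norm⟩ = ((1, 0), (0, 4)) := by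
  refine F.mu_eq _ (by rw [F.uf, mul_inv_cancel_right, emb_fst]) ?_
  rw [F.ux, F.emb_four]

variable [Finite G] (hG : Nat.card G = 448345497600)

include hG in
omit F in
theorem five_part : 5 ^ (Nat.card G).factorization 5 = 25 := by
  rw [hG, show (448345497600 : ℕ) = 5 ^ 2 * 17933819904 by norm_num, Nat.factorization_mul (by norm_num) (by norm_num),
    Finsupp.add_apply, Nat.Prime.factorization_pow Nat.prime_five, Finsupp.single_eq_same,
    Nat.factorization_eq_zero_of_not_dvd (by norm_num)]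
  norm_num

include hG

/-- The Sylow subgroup. -/
theorem Frame.exists_sylow : ∃ S : Sylow 5 G, (S : Subgroup G) = F.grp := by
  haveI : Fact (Nat.Prime 5) := ⟨Nat.prime_five⟩
  exact ⟨Sylow.ofCard F.grp (by rw [F.card_grp, five_part hG]), rfl⟩

/-- Two such groups in the centraliser of an element are conjugate there. -/
theorem Frame.pull {q g : G} (hq : q ∈ F.grp) (hg : ∀ h ∈ F.grp, g * h * g⁻¹ * q = q * (g * h * g⁻¹)) :
    ∃ d : G, d * q = q * d ∧ d * g ∈ normalizer (F.grp : Set G) := by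
  haveI : Fact (Nat.Prime 5) := ⟨Nat.prime_five⟩
  obtain ⟨S, hS⟩ := F.exists_sylow hG
  have h1 : ((S : Sylow 5 G) : Subgroup G) ≤ centralizer ({q} : Set G) := fun h hh =>
    mem_centralizer_singleton_iff.2 (F.comm (hS ▸ hh) hq)
  have h2 : ((g • S : Sylow 5 G) : Subgroup G) ≤ centralizer ({q} : Set G) := by
    rw [Sylow.coe_subgroup_smul, hS]
    rintro _ ⟨h, hh, rfl⟩
    exact mem_centralizer_singleton_iff.2 (hg h hh)
  obtain ⟨d, hd⟩ := MulAction.exists_smul_eq (centralizer ({q} : Set G)) ((g • S).subtype h2) (S.subtype h1)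
  refine ⟨d, mem_centralizer_singleton_iff.1 d.2, ?_⟩
  rw [Sylow.smul_subtype] at hd
  have h3 : ((d : G) * g) • S = S := by
    rw [mul_smul]
    exact Sylow.subtype_injective hd
  rw [← hS]
  exact Sylow.smul_eq_iff_mem_normalizer.1 h3

theorem Frame.exists_n2 : ∃ n : normalizer (F.grp : Set G), ∃ c : ZMod 5, c ≠ 0 ∧ F.mu n = ((2, 0), (0, c)) := by
  obtain ⟨c, hc⟩ := F.sq
  have hf2 : f ^ 2 ∈ F.grp := pow_mem F.f_mem _
  obtain ⟨d, hd, hn⟩ := F.pull hG hf2 (g := c) (fun h hh => by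
    rw [← hc]
    calc c * h * c⁻¹ * (c * f * c⁻¹) = c * (h * f) * c⁻¹ := by group
      _ = c * f * c⁻¹ * (c * h * c⁻¹) := by rw [F.comm hh F.f_mem]; group)
  have hf : d * c * f * (d * c)⁻¹ = emb f x (2, 0) := by
    calc d * c * f * (d * c)⁻¹ = d * (c * f * c⁻¹) * d⁻¹ := by group
      _ = f ^ 2 := by rw [hc, hd, mul_inv_cancel_right]
      _ = emb f x (2, 0) := by
        show _ = f ^ (2 : ZMod 5).val * x ^ (0 : ZMod 5).val
        rw [show (2 : ZMod 5).val = 2 from rfl, show (0 : ZMod 5).val = 0 from rfl, pow_zero, mul_one]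
  obtain ⟨n, hnd⟩ : ∃ n : normalizer (F.grp : Set G), n = ⟨d * c, hn⟩ := ⟨_, rfl⟩
  have h1 : (F.mu n).1 = (2, 0) := F.emb_inj (by rw [← F.mu_fst, hnd]; exact hf)
  refine ⟨n, (F.mu n).2.2, ?_, ?_⟩
  · intro e
    have := F.dt_ne n
    simp [dt, h1, e] at this
  have hd0 := F.dt_ne n
  have hinv := F.mu_mul n⁻¹ n
  obtain ⟨w, hwd⟩ : ∃ w, w = n * ⟨u, F.u_norm⟩ * n⁻¹ := ⟨_, rfl⟩
  have hw : mm (F.mu w) (F.mu n) = mm (F.mu n) ((1, 0), (0, 4)) := by
    rw [← F.mu_u, ← F.mu_mul, ← F.mu_mul, hwd, inv_mul_cancel_right]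
  have hwf : (F.mu w).1 = (1, 0) := by
    have h3 := congrArg Prod.fst hw
    simp only [mm, app, h1, one_mul, zero_mul, add_zero, Prod.mk.injEq] at h3
    obtain ⟨h31, h32⟩ := h3
    exact Prod.ext ((show ∀ a : ZMod 5, 2 * a = 2 → a = 1 by decide) _ h31)
      ((show ∀ a : ZMod 5, 2 * a = 0 → a = 0 by decide) _ h32)
  have hwfix : (w : G) * f = f * w := mul_inv_eq_iff_eq_mul.1 (by rw [F.mu_fst, hwf, emb_fst])
  have hws : (F.mu w).2 = (0, 4) := by
    rcases F.normP _ hwfix ⟨_, F.mu_snd w⟩ with e | e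
    · exfalso
      have hm : F.mu w = ((1, 0), (0, 1)) :=
        F.mu_eq w (by rw [hwfix, mul_inv_cancel_right, emb_fst]) (by rw [e, emb_snd])
      have hmem := F.mu_eq_one.1 hm
      rw [hwd, Subgroup.coe_mul, Subgroup.coe_mul, Subgroup.coe_inv] at hmem
      exact F.u_notMem ((mem_normalizer_iff.1 n.2 u).2 hmem)
    · refine F.emb_inj ?_
      rw [← F.mu_snd, e, F.emb_four]
  have h3 := congrArg (fun m : M4 => m.2.1) hw
  simp only [mm, app, hwf, hws, one_mul, zero_mul, mul_zero, add_zero, mul_one, zero_add] at h3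
  refine Prod.ext h1 (Prod.ext ?_ rfl)
  exact (show ∀ a : ZMod 5, a = 4 * a → a = 0 by decide) _ h3

/-- The stabiliser of the first line. -/
theorem Frame.card_stab : letI := F.lines
    Nat.card (MulAction.stabilizer (normalizer (F.grp : Set G)) (0 : Fin 6)) = 200 := by
  letI := F.lines
  obtain ⟨n, c, hc, hn⟩ := F.exists_n2 hG
  obtain ⟨U, hU⟩ : ∃ U : (normalizer (F.grp : Set G)), U = ⟨u, F.u_norm⟩ := ⟨_, rfl⟩
  have hnp : ∀ i : ℕ, F.mu (n ^ i) = ((2 ^ i, 0), (0, c ^ i)) := by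
    intro i
    induction i with
    | zero => rw [pow_zero, F.mu_one]; simp
    | succ i ih => rw [pow_succ', F.mu_mul, ih, hn]; simp [mm, app, pow_succ']; constructor <;> ring
  have hUm : F.mu U = ((1, 0), (0, 4)) := hU ▸ F.mu_u
  have hP : ∀ p : F.grp, (p : G) ∈ (normalizer (F.grp : Set G)) := fun p => le_normalizer p.2
  let Φ : Fin 4 × Bool × F.grp → (normalizer (F.grp : Set G)) := fun t => n ^ t.1.val * cond t.2.1 U 1 * ⟨t.2.2, hP _⟩
  have hΦ : ∀ t, F.mu (Φ t) = ((2 ^ t.1.val, 0), (0, c ^ t.1.val * cond t.2.1 4 1)) := by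
    rintro ⟨i, b, p⟩
    rw [F.mu_mul, F.mu_mul, hnp, F.mu_eq_one.2 (show ((⟨p, hP p⟩ : (normalizer (F.grp : Set G))) : G) ∈ F.grp from p.2)]
    cases b
    · rw [cond_false, cond_false, F.mu_one]; simp [mm, app]
    · rw [cond_true, cond_true, hUm]; simp [mm, app]; ring
  have hmem : ∀ t, Φ t ∈ MulAction.stabilizer (normalizer (F.grp : Set G)) (0 : Fin 6) := by
    intro t
    rw [MulAction.mem_stabilizer_iff]
    show lineOf (app (F.mu (Φ t)) (pt 0)) = 0
    rw [hΦ]
    have h2 : ∀ a : ZMod 5, a ≠ 0 → lineOf (a, 0) = 0 := by decide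
    rw [show pt 0 = ((1, 0) : V2) by decide, (app_unit _).1]
    exact h2 _ ((show ∀ i : Fin 4, (2 : ZMod 5) ^ i.val ≠ 0 by decide) t.1)
  rw [← Nat.card_congr (Equiv.ofBijective (fun t => (⟨Φ t, hmem t⟩ : MulAction.stabilizer (normalizer (F.grp : Set G)) (0 : Fin 6))) ⟨?_, ?_⟩),
    Nat.card_prod, Nat.card_prod, F.card_grp]
  · simp
  · rintro ⟨i, b, p⟩ ⟨j, b', q⟩ h
    have h' : Φ (i, b, p) = Φ (j, b', q) := congrArg Subtype.val h
    have hm := congrArg F.mu h'
    rw [hΦ, hΦ, Prod.mk.injEq, Prod.mk.injEq, Prod.mk.injEq] at hm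
    obtain ⟨⟨hij, -⟩, -, hb⟩ := hm
    have : i = j := (show ∀ i j : Fin 4, (2 : ZMod 5) ^ i.val = 2 ^ j.val → i = j by decide) i j hij
    subst this
    have hci : c ^ i.val ≠ 0 := by
      have : ∀ c : ZMod 5, c ≠ 0 → ∀ i : Fin 4, c ^ i.val ≠ 0 := by decide
      exact this c hc i
    have hbb : b = b' := (show ∀ a : ZMod 5, a ≠ 0 → ∀ b b' : Bool, a * cond b 4 1 = a * cond b' 4 1 → b = b' by decide)
      _ hci b b' hb
    subst hbb
    have hpq := congrArg Subtype.val (mul_left_cancel h')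
    exact Prod.ext rfl (Prod.ext rfl (Subtype.ext hpq))
  · rintro ⟨w, hw⟩
    rw [MulAction.mem_stabilizer_iff] at hw
    have hw' : lineOf (app (F.mu w) (pt 0)) = 0 := hw
    have hp : app (F.mu w) (pt 0) = (F.mu w).1 := by rw [show pt 0 = ((1, 0) : V2) by decide]; exact (app_unit _).1
    rw [hp] at hw'
    have hne : (F.mu w).1 ≠ 0 := hp ▸ F.app_mu_ne w (pt_ne 0)
    have hb := stab_zero (F.mu w).1.1 (F.mu w).1.2 hne hw'
    have ha : (F.mu w).1.1 ≠ 0 := fun e => hne (Prod.ext e hb)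
    obtain ⟨i, hi⟩ := (show ∀ a : ZMod 5, a ≠ 0 → ∃ i : Fin 4, 2 ^ i.val = a by decide) _ ha
    obtain ⟨w', hw'd⟩ : ∃ w', w' = (n ^ i.val)⁻¹ * w := ⟨_, rfl⟩
    have hfirst : (F.mu w').1 = (1, 0) := by
      have e : mm (F.mu (n ^ i.val)) (F.mu w') = F.mu w := by rw [← F.mu_mul, hw'd, mul_inv_cancel_left]
      rw [hnp] at e
      have e1 := congrArg (fun m : M4 => m.1) e
      simp only [mm, app, mul_zero, add_zero, zero_add] at e1
      obtain ⟨e11, e12⟩ := Prod.ext_iff.1 e1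
      dsimp only at e11 e12
      rw [← hi] at e11
      rw [hb] at e12
      have hci : c ^ i.val ≠ 0 := (show ∀ c : ZMod 5, c ≠ 0 → ∀ i : Fin 4, c ^ i.val ≠ 0 by decide) c hc i
      exact Prod.ext ((show ∀ a b : ZMod 5, b ≠ 0 → a * b = b → a = 1 by decide) _ _
          ((show ∀ i : Fin 4, (2 : ZMod 5) ^ i.val ≠ 0 by decide) i) e11)
        ((show ∀ a b : ZMod 5, b ≠ 0 → a * b = 0 → a = 0 by decide) _ _ hci e12)
    have hfix : (w' : G) * f = f * w' := mul_inv_eq_iff_eq_mul.1 (by rw [F.mu_fst, hfirst, emb_fst])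
    have hval : ∀ (b : Bool) (r : (normalizer (F.grp : Set G))), (r : G) ∈ F.grp → cond b U 1 * r = w' → ∃ t, Φ t = w := by
      intro b r hr e
      refine ⟨(i, b, ⟨r, hr⟩), ?_⟩
      show n ^ i.val * cond b U 1 * r = w
      rw [mul_assoc, e, hw'd, mul_inv_cancel_left]
    have fin : ∃ t, Φ t = w := by
      rcases F.normP _ hfix ⟨_, F.mu_snd w'⟩ with e | e
      · exact hval false w' (F.mu_eq_one.1
          (F.mu_eq w' (by rw [hfix, mul_inv_cancel_right, emb_fst]) (by rw [e, emb_snd]))) (one_mul _)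
      · refine hval true (U * w') (F.mu_eq_one.1 ?_) ?_
        · have hm : F.mu w' = ((1, 0), (0, 4)) := by
            refine (F.mu_eq w' (by rw [hfix, mul_inv_cancel_right, emb_fst]) ?_)
            rw [e, F.emb_four]
          rw [F.mu_mul, hUm, hm]; decide
        · rw [cond_true, ← mul_assoc, show U * U = 1 by rw [hU]; exact Subtype.ext F.u2, one_mul]
    obtain ⟨t, ht⟩ := fin
    exact ⟨t, Subtype.ext ht⟩

/-- The normaliser and its representation. -/
theorem Frame.normalizer_main : Nat.card (normalizer (F.grp : Set G)) = 600 ∧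
    ∃ ε, ∃ θ : normalizer (F.grp : Set G) →* Multiplicative (ZMod 4) × Equiv.Perm (Fin 3),
      Function.Surjective θ ∧ θ.ker = F.grp.subgroupOf (normalizer (F.grp : Set G)) ∧
      ∀ n, F.mu n = iota ε (θ n) := by
  classical
  haveI : Fact (Nat.Prime 5) := ⟨Nat.prime_five⟩
  letI := F.lines
  obtain ⟨n2, c, hc, hn2⟩ := F.exists_n2 hG
  obtain ⟨S, hS⟩ := F.exists_sylow hG
  let O : Finset (Fin 6) := Finset.univ.filter fun l => l ∈ MulAction.orbit (normalizer (F.grp : Set G)) (0 : Fin 6)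
  have hO : ∀ l, l ∈ O ↔ l ∈ MulAction.orbit (normalizer (F.grp : Set G)) (0 : Fin 6) := fun l => by simp [O]
  have horb := Nat.card_congr (MulAction.orbitEquivQuotientStabilizer (normalizer (F.grp : Set G)) (0 : Fin 6))
  have hcard : Nat.card (normalizer (F.grp : Set G)) = O.card * 200 := by
    rw [card_eq_card_quotient_mul_card_subgroup (MulAction.stabilizer (normalizer (F.grp : Set G)) (0 : Fin 6)), F.card_stab hG, ← horb]
    congr 1
    rw [← Nat.card_eq_finsetCard]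
    exact Nat.card_congr (Equiv.subtypeEquivRight fun l => (hO l).symm)
  have hO6 : O.card ≤ 6 := O.card_le_univ.trans (by simp)
  have hm := card_mul_index (normalizer (F.grp : Set G))
  have hn5 := card_sylow_modEq_one 5 G
  have hnorm : normalizer ((S : Sylow 5 G) : Set G) = normalizer (F.grp : Set G) := by rw [← hS]; rfl
  rw [S.card_eq_index_normalizer, hnorm] at hn5
  have hO3 : O.card = 3 := by
    rw [hcard, hG] at hm
    simp only [Nat.ModEq] at hn5
    obtain ⟨k, hk⟩ : ∃ k, k = O.card := ⟨_, rfl⟩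
    rw [← hk] at hm hO6 ⊢
    interval_cases k <;> omega
  have hsub : ∀ m : (normalizer (F.grp : Set G)), ∀ l ∈ O, la (F.mu m) l ∈ O := fun m l hl => by
    rw [hO] at hl ⊢
    obtain ⟨r, rfl⟩ := hl
    exact ⟨m * r, mul_smul m r _⟩
  obtain ⟨ε, hε⟩ := orbit_cases c hc O ((hO 0).2 (MulAction.mem_orbit_self _)) hO3
    (fun l hl => F.mu_u ▸ hsub _ l hl) (fun l hl => hn2 ▸ hsub n2 l hl)
  have hstab : ∀ m : (normalizer (F.grp : Set G)), stab ε (F.mu m) = true := fun m => by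
    simp only [stab, Bool.and_eq_true, decide_eq_true_eq, List.all_eq_true]
    exact ⟨F.dt_ne m, fun l hl => (hε _).1 (hsub m l ((hε l).2 hl))⟩
  choose θ hθ using fun m : (normalizer (F.grp : Set G)) => iota_surj ε (F.mu m).1.1 (F.mu m).1.2 (F.mu m).2.1 (F.mu m).2.2 (hstab m)
  have hmul : ∀ a b : (normalizer (F.grp : Set G)), θ (a * b) = θ a * θ b := fun a b => iota_inj ε _ _ (by
    rw [mul_table, hθ, hθ, hθ]; exact F.mu_mul a b)
  let θ' : (normalizer (F.grp : Set G)) →* Multiplicative (ZMod 4) × Equiv.Perm (Fin 3) := MonoidHom.mk' θ hmul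
  have h600 : Nat.card (normalizer (F.grp : Set G)) = 600 := by rw [hcard, hO3]
  have hiota1 : iota ε 1 = ((1, 0), (0, 1)) := by cases ε <;> decide +kernel
  have hker : θ'.ker = F.grp.subgroupOf (normalizer (F.grp : Set G)) := by
    ext m
    rw [MonoidHom.mem_ker, mem_subgroupOf, ← F.mu_eq_one]
    show θ m = 1 ↔ _
    constructor
    · intro e; exact (hθ m).symm.trans (e ▸ hiota1)
    · intro e; exact iota_inj ε _ _ ((hθ m).trans (e.trans hiota1.symm))
  refine ⟨h600, ε, θ', ?_, hker, fun m => (hθ m).symm⟩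
  have hq := card_eq_card_quotient_mul_card_subgroup θ'.ker
  rw [h600, hker, Nat.card_congr (subgroupOfEquivOfLe le_normalizer).toEquiv, F.card_grp, ← hker,
    Nat.card_congr (QuotientGroup.quotientKerEquivRange θ').toEquiv] at hq
  rw [← MonoidHom.range_eq_top]
  refine eq_top_of_card_eq _ ?_
  rw [Nat.card_prod, show Nat.card (Equiv.Perm (Fin 3)) = 6 by simp [Nat.card_eq_fintype_card, Fintype.card_perm]; rfl,
    show Nat.card (Multiplicative (ZMod 4)) = 4 from Nat.card_zmod 4]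
  omega

/-- The two classes. -/
theorem Frame.classes : ∃ A B : Subgroup G, Nat.card A = 5 ∧ Nat.card B = 5 ∧
    (∀ g : G, A.map (MulAut.conj g).toMonoidHom ≠ B) ∧
    ∀ C : Subgroup G, Nat.card C = 5 →
      ∃ g : G, C.map (MulAut.conj g).toMonoidHom = A ∨ C.map (MulAut.conj g).toMonoidHom = B := by
  classical
  haveI : Fact (Nat.Prime 5) := ⟨Nat.prime_five⟩
  obtain ⟨h600, ε, θ, hsur, hker, hmu⟩ := F.normalizer_main hG
  obtain ⟨S, hS⟩ := F.exists_sylow hG
  have hx1 : x ≠ 1 := fun e => F.xn (e ▸ one_mem _)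
  have hf5 : Nat.card (zpowers f) = 5 := by rw [Nat.card_zpowers, orderOf_eq_prime F.f5 F.f1]
  have hx5 : Nat.card (zpowers x) = 5 := by rw [Nat.card_zpowers, orderOf_eq_prime F.x5 hx1]
  refine ⟨zpowers f, zpowers x, hf5, hx5, fun g hg => ?_, fun C hC => ?_⟩
  · have hmem : g * f * g⁻¹ ∈ zpowers x := hg ▸ mem_map_of_mem _ (mem_zpowers f)
    have hconv : x ∈ zpowers (g * f * g⁻¹) := by
      have e : zpowers (g * f * g⁻¹) = zpowers x := eq_of_le_of_card_ge (zpowers_le.2 hmem) (by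
        rw [hx5, Nat.card_zpowers, ← MulAut.conj_apply, MulEquiv.orderOf_eq, orderOf_eq_prime F.f5 F.f1])
      rw [e]; exact mem_zpowers x
    obtain ⟨d, hd, hn⟩ := F.pull hG F.x_mem (g := g) (fun h hh => by
      obtain ⟨k, hk⟩ := mem_zpowers_iff.1 hconv
      rw [← hk]
      refine ((show Commute (g * h * g⁻¹) (g * f * g⁻¹) from ?_).zpow_right k).eq
      show g * h * g⁻¹ * (g * f * g⁻¹) = g * f * g⁻¹ * (g * h * g⁻¹)
      calc g * h * g⁻¹ * (g * f * g⁻¹) = g * (h * f) * g⁻¹ := by group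
        _ = _ := by rw [F.comm hh F.f_mem]; group)
    obtain ⟨k, hk⟩ := mem_zpowers_iff.1 hmem
    have h1 : ((⟨d * g, hn⟩ : (normalizer (F.grp : Set G))) : G) * f * ((⟨d * g, hn⟩ : (normalizer (F.grp : Set G))) : G)⁻¹ ∈ zpowers x := by
      show d * g * f * (d * g)⁻¹ ∈ _
      rw [show d * g * f * (d * g)⁻¹ = d * (g * f * g⁻¹) * d⁻¹ by group, ← hk,
        ((show Commute d x from hd).zpow_right k).eq, mul_inv_cancel_right]
      exact zpow_mem (mem_zpowers x) _
    rw [F.mu_fst, mem_zpowers_iff_mem_range_orderOf, orderOf_eq_prime F.x5 hx1, Finset.mem_image] at h1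
    obtain ⟨j, -, hj⟩ := h1
    have ej := F.emb_pow ((0, 1) : V2) j
    rw [emb_snd] at ej
    rw [ej] at hj
    have h2 := congrArg Prod.fst (F.emb_inj hj)
    simp at h2
    have hl : la (F.mu ⟨d * g, hn⟩) 0 = 5 := by
      show lineOf (app _ (pt 0)) = 5
      rw [show pt 0 = ((1, 0) : V2) by decide, (app_unit _).1, lineOf, if_pos h2.symm]
    rw [hmu] at hl
    have hst := (iota_stab ε (θ ⟨d * g, hn⟩)).1
    simp only [stab, Bool.and_eq_true, decide_eq_true_eq, List.all_eq_true] at hst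
    have h5 := hst.2 0 (by cases ε <;> decide)
    rw [hl] at h5
    cases ε <;> revert h5 <;> decide
  · obtain ⟨⟨y, hy⟩, hy5⟩ := exists_prime_orderOf_dvd_card' (G := C) 5 (dvd_of_eq hC.symm)
    rw [Subgroup.orderOf_mk] at hy5
    have hCy : zpowers y = C := eq_of_le_of_card_ge (zpowers_le.2 hy) (by rw [Nat.card_zpowers, hy5, hC])
    obtain ⟨T, hT⟩ := (IsPGroup.of_card (n := 1) (by rw [hC, pow_one]) : IsPGroup 5 C).exists_le_sylow
    obtain ⟨g, hg⟩ := MulAction.exists_smul_eq G T S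
    have hgy : g * y * g⁻¹ ∈ F.grp := by
      rw [← hS, ← hg, Sylow.coe_subgroup_smul]
      exact ⟨y, hT hy, rfl⟩
    obtain ⟨v, hv⟩ := F.mem_grp.1 hgy
    have hv0 : v ≠ 0 := fun e => by
      rw [e, emb_zero] at hv
      rw [conj_eq_one_iff.1 hv.symm, orderOf_one] at hy5
      omega
    obtain ⟨n, hn⟩ : ∃ n : (normalizer (F.grp : Set G)), la (F.mu n) (lineOf v) = 0 ∨ la (F.mu n) (lineOf v) = 5 := by
      by_cases hl : lineOf v ∈ orb ε
      · obtain ⟨p, hp⟩ : ∃ p, la (iota ε p) (lineOf v) = 0 :=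
          (show ∀ ε, ∀ l ∈ orb ε, ∃ p : Multiplicative (ZMod 4) × Equiv.Perm (Fin 3), la (iota ε p) l = 0 by
            decide +kernel) ε _ hl
        obtain ⟨n, hn⟩ := hsur p
        exact ⟨n, Or.inl (by rw [hmu, hn, hp])⟩
      · obtain ⟨p, hp⟩ := trans_out ε _ hl
        obtain ⟨n, hn⟩ := hsur p
        exact ⟨n, Or.inr (by rw [hmu, hn, hp])⟩
    have himg := F.mu_spec n v
    rw [hv] at himg
    obtain ⟨k, -, hk⟩ := line_scalar _ (F.app_mu_ne n hv0)
    rw [la_mm _ (F.dt_ne n) v hv0] at hk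
    have finish : ∀ {a : G}, Nat.card (zpowers a) = 5 → emb f x (app (F.mu n) v) ∈ zpowers a →
        C.map (MulAut.conj ((n : G) * g)).toMonoidHom = zpowers a := by
      intro a ha hin
      refine eq_of_le_of_card_ge ?_ (by rw [ha, card_map_of_injective (MulAut.conj _).injective, hC])
      rw [← hCy, MonoidHom.map_zpowers, zpowers_le]
      show (n : G) * g * y * ((n : G) * g)⁻¹ ∈ _
      rw [show (n : G) * g * y * ((n : G) * g)⁻¹ = (n : G) * (g * y * g⁻¹) * (n : G)⁻¹ by group, himg]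
      exact hin
    refine ⟨(n : G) * g, hn.imp (fun e => finish hf5 ?_) (fun e => finish hx5 ?_)⟩
    · rw [e, show pt 0 = ((1, 0) : V2) by decide] at hk
      rw [hk, F.emb_scalar k (1, 0), emb_fst]
      exact pow_mem (mem_zpowers f) _
    · rw [e, show pt 5 = ((0, 1) : V2) by decide] at hk
      rw [hk, F.emb_scalar k (0, 1), emb_snd]
      exact pow_mem (mem_zpowers x) _

end CfsgLib.SuzFive
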