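import Cfsg.Agent.SuzFive.Cent
import Cfsg.Agent.SuzFive.Main

/-!
Elements and Sylow subgroups for the prime five in a group of Suzuki-sporadic type.
-/

set_option autoImplicit false
set_option linter.style.haveILetI false

namespace CfsgLib.SuzFive

open CfsgLib CfsgLib.SuzInvol Subgroup

variable {G : Type*} [Group G] [Finite G] {z f : G} {D : Dat z}

/-- The statement for an arbitrary Sylow subgroup. -/
theorem Five.sylow_all (F : Five D f) (B : Base D) (hC : Nat.card (centralizer ({z} : Set G)) = 3317760)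
    (hG : Nat.card G = 448345497600) (P : Sylow 5 G) :
    (∃ A B : Subgroup G, Nat.card A = 5 ∧ Nat.card B = 5 ∧
      (∀ g : G, A.map (MulAut.conj g).toMonoidHom ≠ B) ∧
      ∀ C : Subgroup G, Nat.card C = 5 →
        ∃ g : G, C.map (MulAut.conj g).toMonoidHom = A ∨ C.map (MulAut.conj g).toMonoidHom = B) ∧
    Nat.card (P : Subgroup G) = 25 ∧ Nat.card (normalizer ((P : Subgroup G) : Set G)) = 600 ∧
    Nonempty (normalizer ((P : Subgroup G) : Set G) ⧸ (P : Subgroup G).subgroupOf (normalizer ((P : Subgroup G) : Set G))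
      ≃* Multiplicative (ZMod 4) × Equiv.Perm (Fin 3)) := by
  haveI : Fact (Nat.Prime 5) := ⟨Nat.prime_five⟩
  obtain ⟨x, u, W⟩ := F.exists_frame B hC hG
  obtain ⟨S, hS⟩ := W.exists_sylow hG
  obtain ⟨g, hg⟩ := MulAction.exists_smul_eq G S P
  have W' := W.conj g
  have hP : (P : Subgroup G) = W'.grp := by
    rw [← hg, Sylow.coe_subgroup_smul, hS]
    refine eq_of_le_of_card_ge ?_ ?_
    · rintro _ ⟨h, hh, rfl⟩
      obtain ⟨v, rfl⟩ := W.mem_grp.1 hh
      refine W'.mem_grp.2 ⟨v, ?_⟩
      show _ = g * emb f x v * g⁻¹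
      rw [emb, emb, conj_pow, conj_pow]
      group
    · rw [W'.card_grp]
      exact ((card_map_of_injective (K := W.grp) (MulAut.conj g).injective).trans W.card_grp).ge
  obtain ⟨h600, ε, θ, hsur, hker, -⟩ := W'.normalizer_main hG
  have key : ∀ K : Subgroup G, K = W'.grp → Nat.card K = 25 ∧ Nat.card (normalizer (K : Set G)) = 600 ∧
      Nonempty (normalizer (K : Set G) ⧸ K.subgroupOf (normalizer (K : Set G))
        ≃* Multiplicative (ZMod 4) × Equiv.Perm (Fin 3)) := by
    rintro K rfl
    exact ⟨W'.card_grp, h600, ⟨(QuotientGroup.quotientMulEquivOfEq hker.symm).trans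
      (QuotientGroup.quotientKerEquivOfSurjective θ hsur)⟩⟩
  exact ⟨W'.classes hG, key _ hP⟩

end CfsgLib.SuzFive
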