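import Mathlib.GroupTheory.Perm.Fin
import Mathlib.Data.ZMod.Basic
import Mathlib.Algebra.Group.TypeTags.Basic
import Mathlib.Data.Fintype.Prod

/-!
Two-dimensional matrices over the field with five elements preserving three given lines.
-/

set_option autoImplicit false
set_option maxRecDepth 100000

namespace CfsgLib.SuzFive

/-- A vector. -/
abbrev V2 := ZMod 5 × ZMod 5

/-- A matrix, given by the images of the two basis vectors. -/
abbrev M4 := V2 × V2

/-- The image of a vector. -/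
def app (m : M4) (v : V2) : V2 := (v.1 * m.1.1 + v.2 * m.2.1, v.1 * m.1.2 + v.2 * m.2.2)

/-- The product. -/
def mm (m m' : M4) : M4 := (app m m'.1, app m m'.2)

/-- The determinant. -/
def dt (m : M4) : ZMod 5 := m.1.1 * m.2.2 - m.1.2 * m.2.1

/-- The line of a vector. -/
def lineOf (v : V2) : Fin 6 :=
  if v.1 = 0 then 5 else ⟨(v.2 * v.1 ^ 3).val, Nat.lt_succ_of_lt (ZMod.val_lt _)⟩

/-- A point of a line. -/
def pt (l : Fin 6) : V2 := if l = 5 then (0, 1) else (1, (l.val : ZMod 5))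

/-- The action on lines. -/
def la (m : M4) (l : Fin 6) : Fin 6 := lineOf (app m (pt l))

/-- The two candidate orbits. -/
def orb (ε : Bool) : List (Fin 6) := if ε then [0, 2, 3] else [0, 1, 4]

/-- The stabiliser of the orbit. -/
def stab (ε : Bool) (m : M4) : Bool := decide (dt m ≠ 0) && (orb ε).all fun l => decide (la m l ∈ orb ε)

/-- The coefficient of the orbit. -/
def eps (ε : Bool) : ZMod 5 := if ε then 2 else 1

/-- The three vectors summing to zero. -/
def tri (ε : Bool) : Fin 3 → V2 := ![(3, 0), (1, eps ε), (1, -eps ε)]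

/-- The representation. -/
def iota (ε : Bool) (p : Multiplicative (ZMod 4) × Equiv.Perm (Fin 3)) : M4 :=
  let a : ZMod 5 := 2 ^ (Multiplicative.toAdd p.1).val
  let e : ZMod 5 := (eps ε) ^ 3
  let u := tri ε (p.2 0)
  let v := tri ε (p.2 1)
  ((a * (2 * u.1), a * (2 * u.2)), (a * (e * (v.1 - 2 * u.1)), a * (e * (v.2 - 2 * u.2))))

theorem mul_table : ∀ ε, ∀ p q : Multiplicative (ZMod 4) × Equiv.Perm (Fin 3),
    iota ε (p * q) = mm (iota ε p) (iota ε q) := by decide +kernel

theorem iota_inj : ∀ ε, ∀ p q : Multiplicative (ZMod 4) × Equiv.Perm (Fin 3), iota ε p = iota ε q → p = q := by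
  decide +kernel

theorem iota_surj : ∀ ε, ∀ a b c d : ZMod 5, stab ε ((a, b), (c, d)) = true →
    ∃ p : Multiplicative (ZMod 4) × Equiv.Perm (Fin 3), iota ε p = ((a, b), (c, d)) := by decide +kernel

theorem iota_stab : ∀ ε, ∀ p : Multiplicative (ZMod 4) × Equiv.Perm (Fin 3), stab ε (iota ε p) = true ∧
    dt (iota ε p) ≠ 0 := by decide +kernel

theorem trans_out : ∀ ε, ∀ l : Fin 6, l ∉ orb ε →
    ∃ p : Multiplicative (ZMod 4) × Equiv.Perm (Fin 3), la (iota ε p) l = 5 := by decide +kernel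

/-- The orbit of the first line. -/
theorem orbit_cases : ∀ c : ZMod 5, c ≠ 0 → ∀ O : Finset (Fin 6), 0 ∈ O → O.card = 3 →
    (∀ l ∈ O, la ((1, 0), (0, 4)) l ∈ O) → (∀ l ∈ O, la ((2, 0), (0, c)) l ∈ O) →
    ∃ ε, ∀ l, l ∈ O ↔ l ∈ orb ε := by decide +kernel

theorem la_mm : ∀ m : M4, dt m ≠ 0 → ∀ v : V2, v ≠ 0 → lineOf (app m v) = la m (lineOf v) := by
  decide +kernel

theorem pt_ne : ∀ l : Fin 6, pt l ≠ 0 := by decide +kernel

theorem app_mm (m m' : M4) (v : V2) : app (mm m m') v = app m (app m' v) := by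
  simp only [app, mm, Prod.mk.injEq]
  constructor <;> ring

theorem line_scalar : ∀ v : V2, v ≠ 0 → ∃ k : ZMod 5, k ≠ 0 ∧ v = (k * (pt (lineOf v)).1, k * (pt (lineOf v)).2) := by
  decide +kernel

theorem lineOf_pt : ∀ l : Fin 6, lineOf (pt l) = l := by decide +kernel

theorem stab_zero : ∀ a b : ZMod 5, (a, b) ≠ (0, 0) → lineOf (a, b) = 0 → b = 0 := by decide +kernel

end CfsgLib.SuzFive
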