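import Mathlib.GroupTheory.Sylow
import Mathlib.Data.ZMod.Basic
import Cfsg.Agent.SuzFive.Lines

/-!
An elementary abelian group of order twenty-five with an involution inverting one of two generators.
-/

set_option autoImplicit false
set_option linter.style.haveILetI false

namespace CfsgLib.SuzFive

open Subgroup

universe u

variable {G : Type u} [Group G] {f x u : G}

/-- The element with given coordinates. -/
def emb (f x : G) (v : V2) : G := f ^ v.1.val * x ^ v.2.val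

/-- The local data. -/
structure Frame (f x u : G) : Prop where
  f5 : f ^ 5 = 1
  x5 : x ^ 5 = 1
  f1 : f ≠ 1
  xf : x * f = f * x
  xn : x ∉ zpowers f
  u2 : u * u = 1
  uf : u * f = f * u
  ux : u * x * u⁻¹ = x⁻¹
  centP : ∀ h : G, h * f = f * h → h * x = x * h → ∃ v, h = emb f x v
  normP : ∀ h : G, h * f = f * h → (∃ v, h * x * h⁻¹ = emb f x v) → h * x * h⁻¹ = x ∨ h * x * h⁻¹ = x⁻¹
  sq : ∃ c : G, c * f * c⁻¹ = f ^ 2

theorem pow_zmod {a : G} (h : a ^ 5 = 1) {n : ℕ} {k : ZMod 5} (e : (n : ZMod 5) = k) : a ^ n = a ^ k.val := by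
  rw [← e, ZMod.val_natCast, ← pow_eq_pow_mod n h]

/-- The conjugate data. -/
theorem Frame.conj (F : Frame f x u) (g : G) : Frame (g * f * g⁻¹) (g * x * g⁻¹) (g * u * g⁻¹) := by
  have key : ∀ a b : G, g * a * g⁻¹ * (g * b * g⁻¹) = g * (a * b) * g⁻¹ := fun a b => by group
  have he : ∀ v, emb (g * f * g⁻¹) (g * x * g⁻¹) v = g * emb f x v * g⁻¹ := fun v => by
    rw [emb, emb, conj_pow, conj_pow, key]
  have back : ∀ h a : G, h * (g * a * g⁻¹) = g * a * g⁻¹ * h → g⁻¹ * h * g * a = a * (g⁻¹ * h * g) := fun h a e => by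
    calc g⁻¹ * h * g * a = g⁻¹ * (h * (g * a * g⁻¹)) * g := by group
      _ = g⁻¹ * (g * a * g⁻¹ * h) * g := by rw [e]
      _ = a * (g⁻¹ * h * g) := by group
  refine ⟨by rw [conj_pow, F.f5]; group, by rw [conj_pow, F.x5]; group, fun e => F.f1 (conj_eq_one_iff.1 e),
    by rw [key, key, F.xf], ?_, by rw [key, F.u2]; group, by rw [key, key, F.uf], ?_, ?_, ?_, ?_⟩
  · intro h
    obtain ⟨n, hn⟩ := mem_zpowers_iff.1 h
    rw [conj_zpow] at hn
    exact F.xn (mem_zpowers_iff.2 ⟨n, mul_left_cancel (mul_right_cancel hn)⟩)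
  · calc g * u * g⁻¹ * (g * x * g⁻¹) * (g * u * g⁻¹)⁻¹ = g * (u * x * u⁻¹) * g⁻¹ := by group
      _ = (g * x * g⁻¹)⁻¹ := by rw [F.ux]; group
  · intro h h1 h2
    obtain ⟨v, hv⟩ := F.centP _ (back h f h1) (back h x h2)
    exact ⟨v, by rw [he, ← hv]; group⟩
  · rintro h h1 ⟨v, hv⟩
    rw [he] at hv
    have e1 : g⁻¹ * h * g * x * (g⁻¹ * h * g)⁻¹ = emb f x v := by
      calc g⁻¹ * h * g * x * (g⁻¹ * h * g)⁻¹ = g⁻¹ * (h * (g * x * g⁻¹) * h⁻¹) * g := by group
        _ = emb f x v := by rw [hv]; group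
    have e2 : h * (g * x * g⁻¹) * h⁻¹ = g * (g⁻¹ * h * g * x * (g⁻¹ * h * g)⁻¹) * g⁻¹ := by group
    rcases F.normP _ (back h f h1) ⟨v, e1⟩ with e | e
    · exact Or.inl (by rw [e2, e])
    · exact Or.inr (by rw [e2, e]; group)
  · obtain ⟨c, hc⟩ := F.sq
    exact ⟨g * c * g⁻¹, by
      calc g * c * g⁻¹ * (g * f * g⁻¹) * (g * c * g⁻¹)⁻¹ = g * (c * f * c⁻¹) * g⁻¹ := by group
        _ = (g * f * g⁻¹) ^ 2 := by rw [hc, conj_pow]⟩

variable (F : Frame f x u)
include F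

theorem Frame.emb_add (v w : V2) : emb f x (v + w) = emb f x v * emb f x w := by
  have c : Commute (x ^ v.2.val) (f ^ w.1.val) := (show Commute x f from F.xf).pow_pow _ _
  calc emb f x (v + w) = f ^ (v.1.val + w.1.val) * x ^ (v.2.val + w.2.val) := by
        rw [pow_zmod F.f5 (k := v.1 + w.1) (by simp), pow_zmod F.x5 (k := v.2 + w.2) (by simp)]; rfl
    _ = f ^ v.1.val * (f ^ w.1.val * x ^ v.2.val) * x ^ w.2.val := by rw [pow_add, pow_add]; group
    _ = f ^ v.1.val * (x ^ v.2.val * f ^ w.1.val) * x ^ w.2.val := by rw [c.eq]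
    _ = emb f x v * emb f x w := by unfold emb; group

omit F in
theorem emb_zero : emb f x (0 : V2) = 1 := by simp [emb]

omit F in
theorem emb_fst : emb f x ((1, 0) : V2) = f := by
  show f ^ (1 : ZMod 5).val * x ^ (0 : ZMod 5).val = f
  rw [show (1 : ZMod 5).val = 1 from rfl, show (0 : ZMod 5).val = 0 from rfl]; simp

omit F in
theorem emb_snd : emb f x ((0, 1) : V2) = x := by
  show f ^ (0 : ZMod 5).val * x ^ (1 : ZMod 5).val = x
  rw [show (1 : ZMod 5).val = 1 from rfl, show (0 : ZMod 5).val = 0 from rfl]; simp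

theorem Frame.emb_inj {v w : V2} (h : emb f x v = emb f x w) : v = w := by
  have hneg : emb f x (-w) * emb f x w = 1 := by rw [← F.emb_add, neg_add_cancel, emb_zero]
  have h1 : emb f x (-w + v) = 1 := by rw [F.emb_add, h, hneg]
  obtain ⟨d, hd⟩ : ∃ d, d = -w + v := ⟨_, rfl⟩
  rw [← hd] at h1
  have h2 : x ^ d.2.val = (f ^ d.1.val)⁻¹ := eq_inv_of_mul_eq_one_right h1
  have hd2 : d.2 = 0 := by
    by_contra hne
    apply F.xn
    obtain ⟨k, hk⟩ : ∃ k : ZMod 5, d.2 * k = 1 := ⟨d.2 ^ 3, by revert hne; generalize d.2 = a; revert a; decide⟩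
    have h3 : x = (x ^ d.2.val) ^ k.val := by
      rw [← pow_mul, pow_zmod F.x5 (k := d.2 * k) (by simp), hk]
      exact (pow_one x).symm
    rw [h3, h2]
    exact pow_mem (inv_mem (pow_mem (mem_zpowers f) _)) _
  have hd1 : d.1 = 0 := by
    rw [hd2, show (0 : ZMod 5).val = 0 from rfl, pow_zero, eq_comm, inv_eq_one] at h2
    haveI : Fact (Nat.Prime 5) := ⟨Nat.prime_five⟩
    have h5 := orderOf_eq_prime F.f5 F.f1
    have hdv := orderOf_dvd_of_pow_eq_one h2
    rw [h5] at hdv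
    exact (ZMod.val_eq_zero _).1 (Nat.eq_zero_of_dvd_of_lt hdv (ZMod.val_lt _))
  have h0 : -w + v = 0 := hd ▸ Prod.ext hd1 hd2
  exact (neg_add_eq_zero.1 h0).symm

/-- The subgroup. -/
def Frame.grp : Subgroup G where
  carrier := Set.range (emb f x)
  one_mem' := ⟨0, emb_zero⟩
  mul_mem' := by rintro _ _ ⟨v, rfl⟩ ⟨w, rfl⟩; exact ⟨v + w, F.emb_add v w⟩
  inv_mem' := by
    rintro _ ⟨v, rfl⟩
    exact ⟨-v, eq_inv_of_mul_eq_one_left (by rw [← F.emb_add, neg_add_cancel, emb_zero])⟩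

theorem Frame.mem_grp {h : G} : h ∈ F.grp ↔ ∃ v, emb f x v = h := Iff.rfl

theorem Frame.f_mem : f ∈ F.grp := ⟨_, emb_fst⟩

theorem Frame.x_mem : x ∈ F.grp := ⟨_, emb_snd⟩

theorem Frame.card_grp : Nat.card F.grp = 25 := by
  have e : V2 ≃ F.grp := Equiv.ofBijective (fun v => ⟨emb f x v, v, rfl⟩)
    ⟨fun v w h => F.emb_inj (congrArg Subtype.val h), fun ⟨_, v, e⟩ => ⟨v, Subtype.ext e⟩⟩
  rw [← Nat.card_congr e, Nat.card_prod, Nat.card_zmod]

theorem Frame.comm {a b : G} (ha : a ∈ F.grp) (hb : b ∈ F.grp) : a * b = b * a := by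
  obtain ⟨v, rfl⟩ := ha
  obtain ⟨w, rfl⟩ := hb
  rw [← F.emb_add, ← F.emb_add, add_comm]

theorem Frame.emb_pow (v : V2) : ∀ n : ℕ, emb f x v ^ n = emb f x (n • v)
  | 0 => by rw [pow_zero, zero_smul, emb_zero]
  | n + 1 => by rw [pow_succ, Frame.emb_pow v n, succ_nsmul, F.emb_add]

theorem Frame.emb_scalar (k : ZMod 5) (v : V2) : emb f x (k * v.1, k * v.2) = emb f x v ^ k.val := by
  rw [F.emb_pow]
  congr 1
  refine Prod.ext ?_ ?_ <;> simp [nsmul_eq_mul]

theorem Frame.u_ne : u ≠ 1 := fun e => by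
  have h := F.ux
  rw [e, one_mul, inv_one, mul_one] at h
  refine F.xn ?_
  have h2 : x * x = 1 := by nth_rewrite 1 [h]; exact inv_mul_cancel x
  have h5 := F.x5
  rw [show (5 : ℕ) = 2 + 2 + 1 from rfl, pow_succ, pow_add, pow_two, h2, one_mul, one_mul] at h5
  rw [h5]; exact one_mem _

theorem Frame.u_notMem : u ∉ F.grp := fun h => by
  have hu := F.ux
  rw [F.comm h F.x_mem, mul_inv_cancel_right] at hu
  refine F.xn ?_
  have h2 : x * x = 1 := by nth_rewrite 1 [hu]; exact inv_mul_cancel x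
  have h5 := F.x5
  rw [show (5 : ℕ) = 2 + 2 + 1 from rfl, pow_succ, pow_add, pow_two, h2, one_mul, one_mul] at h5
  rw [h5]; exact one_mem _

end CfsgLib.SuzFive
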