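import Cfsg.Agent.InvChar.DihedralEight

/-!
The normaliser of a Sylow 5-subgroup of a simple group of order 360 with dihedral involution centralisers.
-/

set_option autoImplicit false
set_option linter.style.haveILetI false

namespace CfsgLib.SuzFive

open Subgroup CfsgLib.InvChar

universe u

theorem five_normalizer {X : Type u} [Group X] [Finite X] {t a b : X} (E : EightData t a b)
    (hno2 : ∀ H : Subgroup X, H.index ≠ 2) (h360 : Nat.card X = 360) (R : Sylow 5 X) [Fact (Nat.Prime 5)] :
    Nat.card R = 5 ∧ Nat.card (normalizer ((R : Subgroup X) : Set X)) = 10 ∧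
      centralizer ((R : Subgroup X) : Set X) = R := by
  classical
  haveI := E.isSimpleGroup hno2
  haveI : Fact (Nat.Prime 2) := ⟨Nat.prime_two⟩
  haveI : Fact (Nat.Prime 3) := ⟨Nat.prime_three⟩
  have hR : Nat.card R = 5 := by
    rw [R.card_eq_multiplicity, h360, show (360 : ℕ) = 5 * 72 by norm_num,
      Nat.factorization_mul (by norm_num) (by norm_num), Finsupp.add_apply,
      Nat.Prime.factorization_self Nat.prime_five, Nat.factorization_eq_zero_of_not_dvd (by norm_num)]
    norm_num
  -- no involution commutes with an element of order three or five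
  have hnone : ∀ w x : X, orderOf w = 2 → (orderOf x = 3 ∨ orderOf x = 5) → w * x ≠ x * w := by
    intro w x hw hx hc
    have hw1 : w ≠ 1 := fun e => by rw [e, orderOf_one] at hw; omega
    obtain ⟨g, hg⟩ := isConj_iff.1 (E.isConj_of_invol hno2 (u := w)
      (by rw [← sq, ← hw, pow_orderOf_eq_one]) hw1)
    have hmem : g⁻¹ * x * g ∈ centralizer ({t} : Set X) := by
      rw [mem_centralizer_singleton_iff]
      rw [← hg] at hc
      calc g⁻¹ * x * g * t = g⁻¹ * (x * (g * t * g⁻¹)) * g := by group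
        _ = g⁻¹ * (g * t * g⁻¹ * x) * g := by rw [hc]
        _ = t * (g⁻¹ * x * g) := by group
    have h8 := orderOf_dvd_natCard (⟨_, hmem⟩ : centralizer ({t} : Set X))
    rw [Subgroup.orderOf_mk, E.card_centralizer,
      show g⁻¹ * x * g = MulAut.conj g⁻¹ x by simp, MulEquiv.orderOf_eq] at h8
    rcases hx with e | e <;> rw [e] at h8 <;> norm_num at h8
  obtain ⟨⟨r, hr⟩, hr5⟩ := exists_prime_orderOf_dvd_card' (G := (R : Subgroup X)) 5 (dvd_of_eq hR.symm)
  rw [Subgroup.orderOf_mk] at hr5
  have hRr : zpowers r = (R : Subgroup X) :=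
    eq_of_le_of_card_ge (zpowers_le.2 hr) (by rw [Nat.card_zpowers, hr5]; exact hR.le)
  set N := normalizer ((R : Subgroup X) : Set X) with hN
  set C := centralizer ((R : Subgroup X) : Set X) with hC
  have hRC : (R : Subgroup X) ≤ C := by
    rw [hC, ← hRr, zpowers_eq_closure, centralizer_closure, closure_le]
    simp [mem_centralizer_singleton_iff]
  have hCodd : ¬ 2 ∣ Nat.card C := fun h => by
    obtain ⟨⟨w, hw⟩, hw2⟩ := exists_prime_orderOf_dvd_card' (G := C) 2 h
    rw [Subgroup.orderOf_mk] at hw2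
    exact hnone w r hw2 (Or.inr hr5) ((mem_centralizer_iff.1 hw r hr).symm)
  haveI : IsCyclic (R : Subgroup X) := isCyclic_of_prime_card hR
  set φ := normalizerMonoidHom (R : Subgroup X) with hφ
  have hkc : Nat.card φ.ker = Nat.card C := by
    rw [hφ, normalizerMonoidHom_ker, Nat.card_congr (subgroupOfEquivOfLe (centralizer_le_normalizer _)).toEquiv]
  have haut : Nat.card (MulAut (R : Subgroup X)) = 4 := by
    rw [IsCyclic.card_mulAut, hR, Nat.totient_prime Nat.prime_five]
  have hrange : Nat.card φ.range ∣ 4 := haut ▸ card_subgroup_dvd_card φ.range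
  have hNcard : Nat.card N = Nat.card C * Nat.card φ.range := by
    rw [card_eq_card_quotient_mul_card_subgroup φ.ker, hkc,
      Nat.card_congr (QuotientGroup.quotientKerEquivRange φ).toEquiv, mul_comm]
  -- the number of Sylow subgroups
  have hsyl := card_sylow_modEq_one 5 X
  have hidx : N.index = Nat.card (Sylow 5 X) := R.card_eq_index_normalizer.symm
  have hmul := card_mul_index N
  rw [h360, hidx] at hmul
  have hne : Nat.card (Sylow 5 X) ≠ 1 := by
    intro h1
    haveI : Subsingleton (Sylow 5 X) := (Nat.card_eq_one_iff_unique.1 h1).1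
    have hnorm : (R : Subgroup X).Normal := R.normal_of_subsingleton
    rcases IsSimpleGroup.eq_bot_or_eq_top_of_normal _ hnorm with e | e
    · rw [e, card_bot] at hR; omega
    · rw [e, card_top, h360] at hR; omega
  have h5C : 5 ∣ Nat.card C := hR ▸ card_dvd_of_le hRC
  have hN2 : Nat.card N = 10 ∨ Nat.card N = 60 := by
    have h5N : 5 ∣ Nat.card N := hNcard ▸ h5C.mul_right _
    obtain ⟨k, hk⟩ := h5N
    obtain ⟨n, hn⟩ : ∃ n, n = Nat.card (Sylow 5 X) := ⟨_, rfl⟩
    rw [← hn] at hmul hsyl hne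
    rw [hk] at hmul
    have hn72 : n ∣ 72 := ⟨k, by nlinarith⟩
    have key : ∀ i : Fin 73, i.val ∣ 72 → i.val % 5 = 1 → i.val = 1 ∨ i.val = 6 ∨ i.val = 36 := by decide +kernel
    have hle := Nat.le_of_dvd (by norm_num) hn72
    rcases key ⟨n, by omega⟩ hn72 (by have := hsyl; simp only [Nat.ModEq] at this; omega) with e | e | e <;>
      simp only at e <;> subst e
    · exact absurd rfl hne
    · right; omega
    · left; omega
  have hrange' := Nat.le_of_dvd (by norm_num) hrange
  obtain ⟨c, hc⟩ : ∃ c, c = Nat.card C := ⟨_, rfl⟩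
  obtain ⟨e, he⟩ : ∃ e, e = Nat.card φ.range := ⟨_, rfl⟩
  rw [← hc, ← he] at hNcard
  rw [← hc] at hCodd h5C
  rw [← he] at hrange hrange'
  rcases hN2 with h10 | h60
  · refine ⟨hR, h10, (eq_of_le_of_card_ge hRC ?_).symm⟩
    rw [hR, ← hc]
    rw [h10] at hNcard
    interval_cases e <;> omega
  exfalso
  rw [h60] at hNcard
  have hc15 : c = 15 ∧ e = 4 := by interval_cases e <;> omega
  obtain ⟨rfl, rfl⟩ := hc15
  obtain ⟨⟨x, hxC⟩, hx3⟩ := exists_prime_orderOf_dvd_card' (G := C) 3 (by rw [← hc]; norm_num)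
  rw [Subgroup.orderOf_mk] at hx3
  -- the elements of order three of the centraliser are powers of one
  haveI hsub : Subsingleton (Sylow 3 C) := by
    obtain ⟨Q⟩ : Nonempty (Sylow 3 C) := inferInstance
    have hm := card_sylow_modEq_one 3 C
    have hd := Q.card_dvd_index
    have hQ : Nat.card Q = 3 := by
      rw [Q.card_eq_multiplicity, ← hc, show (15 : ℕ) = 3 * 5 by norm_num,
        Nat.factorization_mul (by norm_num) (by norm_num), Finsupp.add_apply,
        Nat.Prime.factorization_self Nat.prime_three, Nat.factorization_eq_zero_of_not_dvd (by norm_num)]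
      norm_num
    have hQi := card_mul_index (Q : Subgroup C)
    rw [show Nat.card (Q : Subgroup C) = 3 from hQ, ← hc] at hQi
    rw [show (Q : Subgroup C).index = 5 by omega] at hd
    obtain ⟨n, hn⟩ : ∃ n, n = Nat.card (Sylow 3 C) := ⟨_, rfl⟩
    rw [← hn] at hm hd
    have hn5 := Nat.le_of_dvd (by norm_num) hd
    simp only [Nat.ModEq] at hm
    have : n = 1 := by interval_cases n <;> omega
    rw [hn] at this
    exact (Nat.card_eq_one_iff_unique.1 this).1
  have huniq : ∀ x' ∈ C, orderOf x' = 3 → x' ∈ zpowers x := by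
    intro x' hx' hx'3
    obtain ⟨Q, hQ⟩ := (IsPGroup.of_card (n := 1) (by
      rw [Nat.card_zpowers, Subgroup.orderOf_mk, hx'3, pow_one]) : IsPGroup 3 (zpowers (⟨x', hx'⟩ : C))).exists_le_sylow
    obtain ⟨Q₀, hQ₀⟩ := (IsPGroup.of_card (n := 1) (by
      rw [Nat.card_zpowers, Subgroup.orderOf_mk, hx3, pow_one]) : IsPGroup 3 (zpowers (⟨x, hxC⟩ : C))).exists_le_sylow
    obtain rfl := Subsingleton.elim Q Q₀
    have heq : zpowers (⟨x, hxC⟩ : C) = (Q : Subgroup C) := eq_of_le_of_card_ge hQ₀ (by
      rw [Nat.card_zpowers, Subgroup.orderOf_mk, hx3, Q.card_eq_multiplicity, ← hc, show (15 : ℕ) = 3 * 5 by norm_num,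
        Nat.factorization_mul (by norm_num) (by norm_num), Finsupp.add_apply,
        Nat.Prime.factorization_self Nat.prime_three, Nat.factorization_eq_zero_of_not_dvd (by norm_num)]
      norm_num)
    obtain ⟨n, hn⟩ := mem_zpowers_iff.1 (heq ▸ hQ (mem_zpowers _) : (⟨x', hx'⟩ : C) ∈ zpowers (⟨x, hxC⟩ : C))
    exact mem_zpowers_iff.2 ⟨n, congrArg Subtype.val hn⟩
  -- the two-elements of the normaliser square to one
  have hsq : ∀ w ∈ N, w ^ 4 = 1 → w * w = 1 := by
    intro w hw hw4
    by_contra hne2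
    have hww : orderOf (w * w) = 2 := orderOf_eq_prime (by rw [← pow_two w, ← pow_mul]; exact hw4) hne2
    have hwxC : w * x * w⁻¹ ∈ C := by
      refine mem_centralizer_iff.2 fun q hq => ?_
      have hq' := (mem_normalizer_iff.1 (inv_mem hw) q).1 hq
      have h1 := mem_centralizer_iff.1 hxC _ hq'
      calc q * (w * x * w⁻¹) = w * ((w⁻¹ * q * w⁻¹⁻¹) * x) * w⁻¹ := by group
        _ = w * (x * (w⁻¹ * q * w⁻¹⁻¹)) * w⁻¹ := by rw [h1]
        _ = w * x * w⁻¹ * q := by group
    have hw3 : orderOf (w * x * w⁻¹) = 3 := by rw [← MulAut.conj_apply, MulEquiv.orderOf_eq, hx3]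
    have hzp := huniq _ hwxC hw3
    rw [mem_zpowers_iff_mem_range_orderOf, hx3, Finset.mem_image] at hzp
    obtain ⟨k, hk, hkx⟩ := hzp
    rw [Finset.mem_range] at hk
    have h2 : w * w * x * (w * w)⁻¹ = x ^ (k * k) := by
      calc w * w * x * (w * w)⁻¹ = w * (w * x * w⁻¹) * w⁻¹ := by group
        _ = w * x ^ k * w⁻¹ := by rw [hkx]
        _ = (w * x * w⁻¹) ^ k := conj_pow.symm
        _ = x ^ (k * k) := by rw [← hkx, pow_mul]
    have hx3' : x ^ 3 = 1 := hx3 ▸ pow_orderOf_eq_one x
    interval_cases k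
    · rw [pow_zero] at hkx
      rw [← hkx, orderOf_one] at hw3; omega
    · rw [mul_one, pow_one] at h2
      exact hnone _ _ hww (Or.inl hx3) (mul_inv_eq_iff_eq_mul.1 h2)
    · rw [show 2 * 2 = 3 + 1 from rfl, pow_add, hx3', one_mul, pow_one] at h2
      exact hnone _ _ hww (Or.inl hx3) (mul_inv_eq_iff_eq_mul.1 h2)
  obtain ⟨S⟩ : Nonempty (Sylow 2 N) := inferInstance
  have hS4 : Nat.card S = 4 := by
    rw [S.card_eq_multiplicity, h60, show (60 : ℕ) = 2 ^ 2 * 15 by norm_num,
      Nat.factorization_mul (by norm_num) (by norm_num), Finsupp.add_apply,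
      Nat.Prime.factorization_pow Nat.prime_two, Finsupp.single_eq_same,
      Nat.factorization_eq_zero_of_not_dvd (by norm_num)]
    norm_num
  haveI : IsCyclic φ.range := by
    haveI : IsCyclic (MulAut (R : Subgroup X)) := by
      haveI : IsCyclic (ZMod (Nat.card (R : Subgroup X)))ˣ := by
        rw [hR]; infer_instance
      exact isCyclic_of_surjective _ (IsCyclic.mulAutMulEquiv (R : Subgroup X)).symm.surjective
    infer_instance
  haveI := Fintype.ofFinite φ.range
  haveI := Fintype.ofFinite (S : Subgroup N)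
  let f : ↥(S : Subgroup N) → {g : φ.range // g ^ 2 = 1} := fun s => ⟨⟨φ s, ⟨_, rfl⟩⟩, by
    have h4 : (s : N) ^ 4 = 1 := by
      rw [← hS4]; exact congrArg Subtype.val (pow_card_eq_one' (x := s))
    have := hsq ((s : N) : X) (s : N).2 (by rw [← Subgroup.coe_pow, h4]; rfl)
    refine Subtype.ext ?_
    rw [Subgroup.coe_pow, Subgroup.coe_one]
    show φ s ^ 2 = 1
    rw [← map_pow, show (s : N) ^ 2 = 1 from Subtype.ext (by rw [Subgroup.coe_pow, pow_two]; exact this), map_one]⟩
  have hf : Function.Injective f := by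
    intro s s' h
    have h1 : φ s = φ s' := congrArg (fun g => ((g.1 : φ.range) : MulAut (R : Subgroup X))) h
    have hker : (((s⁻¹ * s' : (S : Subgroup N)) : N) : X) ∈ C := by
      have hk : ((s⁻¹ * s' : (S : Subgroup N)) : N) ∈ φ.ker := by
        show φ _ = 1
        rw [Subgroup.coe_mul, Subgroup.coe_inv, map_mul, map_inv, h1, inv_mul_cancel]
      rw [hφ, normalizerMonoidHom_ker, mem_subgroupOf] at hk
      exact hk
    obtain ⟨d, hd⟩ : ∃ d, d = (s⁻¹ * s' : (S : Subgroup N)) := ⟨_, rfl⟩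
    rw [← hd] at hker
    have hd4 : ((d : N) : X) ^ 4 = 1 := by
      have h4 : (d : N) ^ 4 = 1 := by rw [← hS4]; exact congrArg Subtype.val (pow_card_eq_one' (x := d))
      rw [← Subgroup.coe_pow, h4]; rfl
    have hd15 : ((d : N) : X) ^ 15 = 1 := by
      rw [hc]; exact congrArg Subtype.val (pow_card_eq_one' (x := (⟨_, hker⟩ : C)))
    have h14 := pow_gcd_eq_one.2 ⟨hd4, hd15⟩
    rw [show Nat.gcd 4 15 = 1 from rfl, pow_one] at h14
    have hd1 : d = 1 := Subtype.ext (Subtype.ext h14)
    rw [hd, inv_mul_eq_one] at hd1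
    exact hd1
  have hle := Nat.card_le_card_of_injective f hf
  rw [hS4, Nat.card_eq_fintype_card, Fintype.card_subtype] at hle
  have := IsCyclic.card_pow_eq_one_le (α := φ.range) (n := 2) (by norm_num)
  omega

end CfsgLib.SuzFive
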