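import Cfsg.Agent.SuzFive.Five
import Cfsg.Agent.SuzFive.Three60
import Cfsg.Agent.SuzFive.Frame

/-!
The centraliser of an element of order five.
-/

set_option autoImplicit false
set_option linter.style.haveILetI false
set_option maxRecDepth 100000

namespace CfsgLib.SuzFive

open CfsgLib CfsgLib.Quad CfsgLib.SuzInvol CfsgLib.SuzThree CfsgLib.InvChar Subgroup

variable {G : Type*} [Group G] [Finite G] {z f : G} {D : Dat z}

theorem four_facts : qf (vec 1) = 0 ∧ qf (vec 4) = 0 ∧ bf (vec 1) (vec 4) = 1 ∧ vec 1 + vec 4 = vec 5 ∧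
    (vec 0 = 0 ∧ vec 1 ≠ 0 ∧ vec 4 ≠ 0 ∧ vec 5 ≠ 0) ∧ (vec 1 ≠ vec 4 ∧ vec 1 ≠ vec 5 ∧ vec 4 ≠ vec 5) := by
  decide +kernel

theorem five_fac : Nat.factorization 448345497600 5 = 2 := by
  rw [show (448345497600 : ℕ) = 5 ^ 2 * 17933819904 by norm_num, Nat.factorization_mul (by norm_num) (by norm_num),
    Finsupp.add_apply, Nat.Prime.factorization_pow Nat.prime_five, Finsupp.single_eq_same,
    Nat.factorization_eq_zero_of_not_dvd (by norm_num)]

variable (F : Five D f) (B : Base D)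
include F B

theorem Five.comm_s : f * B.s = B.s * f :=
  (F.comm_iff B.sQ).2 (by rw [B.πs, ← vec1]; simp)

theorem Five.conj_z (hC : Nat.card (centralizer ({z} : Set G)) = 3317760) {q : G} (hq : q ∈ D.Q)
    (hqf : f * q = q * f) (hq0 : D.π q ≠ 0) (hq2 : qf (D.π q) = 0) :
    ∃ h : G, h * f = f * h ∧ h * q * h⁻¹ = z := by
  obtain ⟨c, hc, hcs⟩ := exists_conj_C D hq B.sQ hq2 (by rw [B.πs]; exact q_e0) hq0
    (by rw [B.πs]; exact base_facts.2.2.2)
  obtain ⟨k, hkd⟩ : ∃ k, k = B.g * c := ⟨_, rfl⟩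
  have hk : k * q * k⁻¹ = z := by
    calc k * q * k⁻¹ = B.g * (c * q * c⁻¹) * B.g⁻¹ := by rw [hkd]; group
      _ = z := by rw [hcs, B.gs]
  have hfz : k * f * k⁻¹ ∈ centralizer ({z} : Set G) := by
    rw [mem_centralizer_singleton_iff, ← hk]
    calc k * f * k⁻¹ * (k * q * k⁻¹) = k * (f * q) * k⁻¹ := by group
      _ = k * q * k⁻¹ * (k * f * k⁻¹) := by rw [hqf]; group
  obtain ⟨c', hc', hmem⟩ := F.conj_into hC hfz (by rw [conj_pow, F.five]; group) fun e => F.ne_one (conj_eq_one_iff.1 e)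
  obtain ⟨c₂, hc₂, hsq⟩ := F.square
  classical
  haveI : Fact (Nat.Prime 5) := ⟨Nat.prime_five⟩
  rw [mem_zpowers_iff_mem_range_orderOf, F.order, Finset.mem_image] at hmem
  obtain ⟨i, hi, he⟩ := hmem
  rw [Finset.mem_range] at hi
  have hpow : ∀ m : ℕ, c₂ ^ m * f * (c₂ ^ m)⁻¹ = f ^ (2 ^ m) := by
    intro m
    induction m with
    | zero => simp
    | succ m ih =>
      calc c₂ ^ (m + 1) * f * (c₂ ^ (m + 1))⁻¹ = c₂ * (c₂ ^ m * f * (c₂ ^ m)⁻¹) * c₂⁻¹ := by rw [pow_succ']; group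
        _ = (c₂ * f * c₂⁻¹) ^ (2 ^ m) := by rw [ih, conj_pow]
        _ = f ^ (2 ^ (m + 1)) := by rw [hsq, ← pow_mul, pow_succ']
  have hi0 : i ≠ 0 := fun e => by
    rw [e, pow_zero] at he
    exact F.ne_one (conj_eq_one_iff.1 (conj_eq_one_iff.1 he.symm))
  obtain ⟨m, hm⟩ : ∃ m, 2 ^ m * i % 5 = 1 := by
    rcases (by omega : i = 1 ∨ i = 2 ∨ i = 3 ∨ i = 4) with rfl | rfl | rfl | rfl
    exacts [⟨0, rfl⟩, ⟨3, rfl⟩, ⟨1, rfl⟩, ⟨2, rfl⟩]
  have hz1 := mem_centralizer_singleton_iff.1 (mul_mem (pow_mem hc₂ m) hc')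
  refine ⟨c₂ ^ m * c' * k, ?_, ?_⟩
  · have e1 : c₂ ^ m * c' * k * f * (c₂ ^ m * c' * k)⁻¹ = f := by
      calc c₂ ^ m * c' * k * f * (c₂ ^ m * c' * k)⁻¹ = c₂ ^ m * (c' * (k * f * k⁻¹) * c'⁻¹) * (c₂ ^ m)⁻¹ := by group
        _ = (c₂ ^ m * f * (c₂ ^ m)⁻¹) ^ i := by rw [← he, conj_pow]
        _ = f := by rw [hpow, ← pow_mul, pow_eq_pow_mod _ F.five, hm, pow_one]
    exact mul_inv_eq_iff_eq_mul.1 e1
  · calc c₂ ^ m * c' * k * q * (c₂ ^ m * c' * k)⁻¹ = c₂ ^ m * c' * (k * q * k⁻¹) * (c₂ ^ m * c')⁻¹ := by group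
      _ = z := by rw [hk, hz1, mul_inv_cancel_right]

omit F B in
/-- The cyclic subgroup in its centraliser. -/
def kerF (f : G) : Subgroup (centralizer ({f} : Set G)) := (zpowers f).subgroupOf (centralizer ({f} : Set G))

omit [Finite G] F B in
instance (f : G) : (kerF f).Normal := ⟨fun n hn h => by
  rw [kerF, mem_subgroupOf] at hn ⊢
  obtain ⟨k, hk⟩ := mem_zpowers_iff.1 hn
  refine mem_zpowers_iff.2 ⟨k, ?_⟩
  have hc : Commute (h : G) f := mem_centralizer_singleton_iff.1 h.2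
  rw [Subgroup.coe_mul, Subgroup.coe_mul, Subgroup.coe_inv, ← hk, (hc.zpow_right k).eq, mul_inv_cancel_right]⟩

omit B in
theorem Five.eq_of_mk {a b : centralizer ({f} : Set G)}
    (h : (QuotientGroup.mk a : _ ⧸ kerF f) = QuotientGroup.mk b) (h2 : ((a : G)⁻¹ * b) ^ 128 = 1) : a = b := by
  rw [QuotientGroup.eq, kerF, mem_subgroupOf] at h
  obtain ⟨k, hk⟩ := mem_zpowers_iff.1 h
  have h5 : ((a : G)⁻¹ * b) ^ 5 = 1 := by
    rw [show ((a : G)⁻¹ * b) = f ^ k from hk.symm, ← zpow_natCast, ← zpow_mul, mul_comm, zpow_mul, zpow_natCast,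
      F.five, one_zpow]
  have h1 := pow_gcd_eq_one.2 ⟨h2, h5⟩
  rw [show Nat.gcd 128 5 = 1 from rfl, pow_one] at h1
  exact Subtype.ext (inv_mul_eq_one.1 h1)

/-- The quotient of the centraliser. -/
theorem Five.eight (hC : Nat.card (centralizer ({z} : Set G)) = 3317760) :
    ∃ t a b : centralizer ({f} : Set G) ⧸ kerF f, EightData t a b ∧
      ∀ H : Subgroup (centralizer ({f} : Set G) ⧸ kerF f), H.index ≠ 2 := by
  classical
  obtain ⟨q1, q4, b14, v14, ⟨v0, n1, n4, n5⟩, d14, d15, d45⟩ := four_facts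
  obtain ⟨a0, ha0, hπa⟩ := D.π_surj (vec 4)
  have hs := F.comm_s B
  have ha : f * a0 = a0 * f := (F.comm_iff ha0).2 (by rw [hπa]; simp)
  have hπs : D.π B.s = vec 1 := by rw [B.πs, vec1]
  have hz : f * z = z * f := mem_centralizer_singleton_iff.1 F.mem
  have hsa : D.π (B.s * a0) = vec 5 := by rw [D.π_mul _ B.sQ _ ha0, hπs, hπa, v14]
  have a2 : a0 * a0 = 1 := (D.sq_iff _ ha0).2 (by rw [hπa, q4])
  have hnc : B.s * a0 ≠ a0 * B.s := fun e => by
    have := (D.comm_iff _ B.sQ _ ha0).1 e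
    rw [hπs, hπa, b14] at this
    exact one_ne_zero this
  have hsaQ := mul_mem B.sQ ha0
  have hsq : B.s * a0 * (B.s * a0) = z := by
    have h0 : D.π (B.s * a0 * (B.s * a0)) = 0 := by rw [D.π_mul _ hsaQ _ hsaQ]; exact add_self _
    refine ((D.π_eq_zero _ (mul_mem hsaQ hsaQ)).1 h0).resolve_left fun e => hnc ?_
    rw [eq_inv_of_mul_eq_one_left e, mul_inv_rev, inv_eq_of_mul_eq_one_right a2,
      inv_eq_of_mul_eq_one_right B.s_sq]
  have hH : ∀ {q : G}, f * q = q * f → q ∈ centralizer ({f} : Set G) := fun {q} e =>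
    mem_centralizer_singleton_iff.2 e.symm
  let zb : centralizer ({f} : Set G) := ⟨z, hH hz⟩
  let sb : centralizer ({f} : Set G) := ⟨B.s, hH hs⟩
  let ab : centralizer ({f} : Set G) := ⟨a0, hH ha⟩
  let mk : centralizer ({f} : Set G) →* centralizer ({f} : Set G) ⧸ kerF f := QuotientGroup.mk' (kerF f)
  have inj : ∀ {a b : centralizer ({f} : Set G)}, (a : G) ∈ D.Q → (b : G) ∈ D.Q → mk a = mk b → a = b :=
    fun {a b} ha hb e => F.eq_of_mk e (pow_Q (mul_mem (inv_mem ha) hb))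
  have hzz : zb * zb = 1 := Subtype.ext D.pre.gen.sq
  have hzQ : (zb : G) ∈ D.Q := D.pre.gen.mem
  have hsab : sb * ab * (sb * ab) = zb := Subtype.ext hsq
  let rep : Fin 4 × Bool → centralizer ({f} : Set G) := fun p => ![1, sb, ab, sb * ab] p.1 * cond p.2 zb 1
  have repQ : ∀ p, (rep p : G) ∈ D.Q ∧ D.π (rep p : G) = ![vec 0, vec 1, vec 4, vec 5] p.1 := by
    intro p
    have hc : ((cond p.2 zb 1 : centralizer ({f} : Set G)) : G) ∈ D.Q ∧
        D.π ((cond p.2 zb 1 : centralizer ({f} : Set G)) : G) = 0 := by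
      cases p.2
      exacts [⟨one_mem _, π_one D⟩, ⟨D.pre.gen.mem, π_z D⟩]
    obtain ⟨j, hj⟩ : ∃ j, j = p.1 := ⟨_, rfl⟩
    have hb : ((![1, sb, ab, sb * ab] j : centralizer ({f} : Set G)) : G) ∈ D.Q ∧
        D.π ((![1, sb, ab, sb * ab] j : centralizer ({f} : Set G)) : G) = ![vec 0, vec 1, vec 4, vec 5] j := by
      fin_cases j
      exacts [⟨one_mem _, (π_one D).trans v0.symm⟩, ⟨B.sQ, hπs⟩, ⟨ha0, hπa⟩, ⟨hsaQ, hsa⟩]
    subst hj
    refine ⟨mul_mem hb.1 hc.1, ?_⟩
    show D.π (_ * _) = _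
    rw [D.π_mul _ hb.1 _ hc.1, hb.2, hc.2, add_zero]
  have hcentz : ∀ h : centralizer ({f} : Set G),
      mk h ∈ centralizer ({mk zb} : Set (centralizer ({f} : Set G) ⧸ kerF f)) ↔
        (h : G) ∈ centralizer ({z} : Set G) := by
    intro h
    rw [mem_centralizer_singleton_iff, mem_centralizer_singleton_iff]
    constructor
    · intro e
      have e1 : mk (h * zb * h⁻¹) = mk zb := by rw [map_mul, map_mul, map_inv, e, mul_inv_cancel_right]
      have hh : h * zb * h⁻¹ = zb := by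
        refine F.eq_of_mk e1 ?_
        have c2 : ((h * zb * h⁻¹ : centralizer ({f} : Set G)) : G) * (h * zb * h⁻¹ : centralizer ({f} : Set G)) = 1 := by
          show (h : G) * z * (h : G)⁻¹ * ((h : G) * z * (h : G)⁻¹) = 1
          calc (h : G) * z * (h : G)⁻¹ * ((h : G) * z * (h : G)⁻¹) = h * (z * z) * (h : G)⁻¹ := by group
            _ = 1 := by rw [D.pre.gen.sq, mul_one, mul_inv_cancel]
        rw [inv_eq_of_mul_eq_one_right c2]
        have hconj : (h : G) * z * (h : G)⁻¹ = z * ((z : G)⁻¹ * ((h : G) * z * (h : G)⁻¹)) := by group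
        have hmem : ((zb⁻¹ * (h * zb * h⁻¹) : centralizer ({f} : Set G)) : G) ∈ zpowers f := by
          have := (QuotientGroup.eq (s := kerF f)).1 e1.symm
          rwa [kerF, mem_subgroupOf] at this
        obtain ⟨k, hk⟩ := mem_zpowers_iff.1 hmem
        have hk' : (h : G) * z * (h : G)⁻¹ = z * f ^ k := by rw [hk]; exact hconj
        show ((h : G) * z * (h : G)⁻¹ * z) ^ 128 = 1
        have hzk : Commute z (f ^ k) := (show Commute z f from hz.symm).zpow_right k
        have hh2 : (z * f ^ k) * (z * f ^ k) = 1 := hk' ▸ c2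
        have hf1 : f ^ k * f ^ k = 1 := by
          calc f ^ k * f ^ k = z * z * (f ^ k * f ^ k) := by rw [D.pre.gen.sq, one_mul]
            _ = z * (z * f ^ k) * f ^ k := by group
            _ = z * (f ^ k * z) * f ^ k := by rw [hzk.eq]
            _ = 1 := by rw [← mul_assoc] at hh2; rw [← mul_assoc]; exact hh2
        rw [hk', hzk.eq, mul_assoc, D.pre.gen.sq, mul_one, show (128 : ℕ) = 2 * 64 from rfl, pow_mul, pow_two, hf1,
          one_pow]
      exact mul_inv_eq_iff_eq_mul.1 (congrArg Subtype.val hh)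
    · intro e
      rw [← map_mul, ← map_mul]
      exact congrArg mk (Subtype.ext e)
  have hbij : Function.Bijective (fun p =>
      (⟨mk (rep p), (hcentz _).2 (SuzInvol.mem_C D (repQ p).1)⟩ :
        centralizer ({mk zb} : Set (centralizer ({f} : Set G) ⧸ kerF f)))) := by
    constructor
    · rintro ⟨i, b⟩ ⟨j, b'⟩ h
      have e := inj (repQ (i, b)).1 (repQ (j, b')).1 (congrArg Subtype.val h)
      have e' := (repQ (i, b)).2.symm.trans ((congrArg (fun r => D.π (r : centralizer ({f} : Set G)).1) e).trans (repQ (j, b')).2)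
      have hij : i = j := by
        have hd : ∀ i j : Fin 4, ![vec 0, vec 1, vec 4, vec 5] i = ![vec 0, vec 1, vec 4, vec 5] j → i = j := by
          decide +kernel
        exact hd i j e'
      subst hij
      have := mul_left_cancel e
      cases b <;> cases b'
      · rfl
      · exact absurd (congrArg Subtype.val this).symm D.pre.gen.ne_one
      · exact absurd (congrArg Subtype.val this) D.pre.gen.ne_one
      · rfl
    · rintro ⟨w, hw⟩
      obtain ⟨h, rfl⟩ := QuotientGroup.mk'_surjective (kerF f) w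
      obtain ⟨i, q, hq, hqf, e⟩ := F.cent ((hcentz h).1 hw) (mem_centralizer_singleton_iff.1 h.2)
      have hmk : ∀ p, (rep p : G) = q → mk (rep p) = mk h := fun p hp => by
        rw [QuotientGroup.mk'_eq_mk']
        refine ⟨⟨f ^ i.val, hH ((Commute.refl f).pow_right _).eq⟩, ?_, Subtype.ext ?_⟩
        · rw [kerF, mem_subgroupOf]; exact pow_mem (mem_zpowers f) _
        · show (rep p : G) * f ^ i.val = h
          rw [hp, e, ((show Commute f q from hqf).pow_left _).eq]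
      have hl := (F.comm_iff hq).1 hqf
      obtain ⟨j, hj⟩ : ∃ j, ![vec 0, vec 1, vec 4, vec 5] j = D.π q := by
        simp only [List.mem_cons, List.not_mem_nil, or_false] at hl
        rcases hl with e | e | e | e
        exacts [⟨0, e.symm⟩, ⟨1, e.symm⟩, ⟨2, e.symm⟩, ⟨3, e.symm⟩]
      rcases eq_of_π D (repQ (j, false)).1 hq ((repQ (j, false)).2.trans hj) with e' | e'
      · exact ⟨(j, false), Subtype.ext (hmk _ e'.symm)⟩
      · refine ⟨(j, true), Subtype.ext (hmk _ ?_)⟩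
        rw [e']
        show (_ : G) * z = (_ * 1) * z
        rw [mul_one]
  have h8 : Nat.card (centralizer ({mk zb} : Set (centralizer ({f} : Set G) ⧸ kerF f))) = 8 := by
    rw [← Nat.card_congr (Equiv.ofBijective _ hbij)]; simp
  have hz1 : mk zb ≠ 1 := fun e => D.pre.gen.ne_one
    (congrArg Subtype.val (inj hzQ (one_mem _) (e.trans mk.map_one.symm)))
  have hzsq : mk zb * mk zb = 1 := by rw [← map_mul, hzz, map_one]
  have hord : orderOf (mk (sb * ab)) = 4 := by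
    haveI : Fact (Nat.Prime 2) := ⟨Nat.prime_two⟩
    refine orderOf_eq_prime_pow (p := 2) (n := 1) ?_ ?_
    · rw [pow_one, pow_two, ← map_mul, hsab]; exact hz1
    · rw [show 2 ^ (1 + 1) = 2 * 2 from rfl, pow_mul, pow_two (mk (sb * ab)), ← map_mul, hsab, pow_two]
      exact hzsq
  have hb2 : mk sb * mk sb = 1 := by rw [← map_mul, show sb * sb = 1 from Subtype.ext B.s_sq, map_one]
  have E : EightData (mk zb) (mk (sb * ab)) (mk sb) := by
    refine ⟨hzsq, hz1, hord, by rw [← map_mul, hsab], ?_, hb2, ?_, h8, (hcentz sb).2 (SuzInvol.mem_C D B.sQ)⟩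
    · rw [← map_inv, ← map_inv, ← map_mul, ← map_mul]
      refine congrArg mk (Subtype.ext ?_)
      show B.s * (B.s * a0) * B.s⁻¹ = (B.s * a0)⁻¹
      rw [mul_inv_rev, ← mul_assoc, B.s_sq, one_mul, inv_eq_of_mul_eq_one_right a2, inv_eq_of_mul_eq_one_right B.s_sq]
    · intro h
      have hmem : mk (ab) ∈ zpowers (mk (sb * ab)) := by
        have e : mk ab = mk sb * mk (sb * ab) := by
          rw [← map_mul mk sb (sb * ab), ← mul_assoc, show sb * sb = 1 from Subtype.ext B.s_sq, one_mul]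
        rw [e]
        exact mul_mem h (mem_zpowers _)
      obtain ⟨i, hi⟩ := mem_zpowers_iff.1 h
      obtain ⟨j, hj⟩ := mem_zpowers_iff.1 hmem
      have hcm := ((Commute.refl (mk (sb * ab))).zpow_zpow i j).eq
      rw [hi, hj, ← map_mul, ← map_mul] at hcm
      exact hnc (congrArg Subtype.val (inj (mul_mem B.sQ ha0) (mul_mem ha0 B.sQ) hcm))
  refine ⟨_, _, _, E, fun H hH2 => ?_⟩
  haveI := normal_of_index_eq_two hH2
  have hzH : mk zb ∈ H := by
    rw [← hsab, map_mul]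
    exact mul_self_mem_of_index_two hH2 _
  have hin : ∀ {q : centralizer ({f} : Set G)}, (q : G) ∈ D.Q → D.π (q : G) ≠ 0 → qf (D.π (q : G)) = 0 →
      mk q ∈ H := by
    intro q hq h0 h2
    obtain ⟨h, hf, he⟩ := F.conj_z B hC hq (mem_centralizer_singleton_iff.1 q.2).symm h0 h2
    have hh : h ∈ centralizer ({f} : Set G) := mem_centralizer_singleton_iff.2 hf
    have e : mk q = mk ⟨h, hh⟩⁻¹ * mk zb * (mk ⟨h, hh⟩⁻¹)⁻¹ := by
      rw [← map_inv, ← map_mul, ← map_mul]
      refine congrArg mk (Subtype.ext ?_)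
      show (q : G) = h⁻¹ * z * h⁻¹⁻¹
      rw [← he]; group
    rw [e]
    exact Normal.conj_mem inferInstance _ hzH _
  have hsH : mk sb ∈ H := hin B.sQ (hπs ▸ n1) (hπs ▸ q1)
  have haH : mk ab ∈ H := hin ha0 (hπa ▸ n4) (hπa ▸ q4)
  have hle : centralizer ({mk zb} : Set (centralizer ({f} : Set G) ⧸ kerF f)) ≤ H := by
    intro w hw
    obtain ⟨p, hp⟩ := hbij.2 ⟨w, hw⟩
    rw [← show mk (rep p) = w from congrArg Subtype.val hp, map_mul]
    refine mul_mem ?_ ?_
    · obtain ⟨j, hj⟩ : ∃ j, j = p.1 := ⟨_, rfl⟩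
      rw [← hj]
      fin_cases j
      exacts [mk.map_one ▸ one_mem H, hsH, haH, show mk (sb * ab) ∈ H by rw [map_mul]; exact mul_mem hsH haH]
    · cases p.2
      exacts [mk.map_one ▸ one_mem H, hzH]
  have hodd := E.odd_index
  rw [← relIndex_mul_index hle, hH2, Nat.odd_mul] at hodd
  exact absurd hodd.2 (by decide)

/-- The frame. -/
theorem Five.exists_frame (hC : Nat.card (centralizer ({z} : Set G)) = 3317760)
    (hG : Nat.card G = 448345497600) : ∃ x u : G, Frame f x u := by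
  classical
  haveI : Fact (Nat.Prime 5) := ⟨Nat.prime_five⟩
  obtain ⟨t, a, b, E, hno2⟩ := F.eight B hC
  set H := centralizer ({f} : Set G) with hHd
  have hHcard : Nat.card H = Nat.card (H ⧸ kerF f) * 5 := by
    rw [card_eq_card_quotient_mul_card_subgroup (kerF f)]
    congr 1
    rw [kerF, Nat.card_congr (subgroupOfEquivOfLe (zpowers_le.2 (mem_centralizer_singleton_iff.2 rfl))).toEquiv,
      Nat.card_zpowers, F.order]
  have h25 : 25 ∣ Nat.card H := by
    obtain ⟨S, hS⟩ := (IsPGroup.of_card (n := 1) (by rw [Nat.card_zpowers, F.order, pow_one]) :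
      IsPGroup 5 (zpowers f)).exists_le_sylow
    have hScard : Nat.card (S : Subgroup G) = 5 ^ 2 :=
      S.card_eq_multiplicity.trans (by rw [hG, five_fac])
    have hle : (S : Subgroup G) ≤ H := by
      intro s hs
      refine mem_centralizer_singleton_iff.2 ?_
      exact congrArg Subtype.val (IsPGroup.commutative_of_card_eq_prime_sq hScard
        (⟨s, hs⟩ : (S : Subgroup G)) ⟨f, hS (mem_zpowers f)⟩)
    have := card_dvd_of_le hle
    rwa [hScard] at this
  have h360 : Nat.card (H ⧸ kerF f) = 360 := by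
    refine (E.card_eq hno2).resolve_left fun e => ?_
    rw [hHcard, e] at h25
    norm_num at h25
  obtain ⟨R⟩ : Nonempty (Sylow 5 (H ⧸ kerF f)) := inferInstance
  obtain ⟨hR, hN, hCR⟩ := five_normalizer E hno2 h360 R
  obtain ⟨⟨rb, hrR⟩, hr5⟩ := exists_prime_orderOf_dvd_card' (G := (R : Subgroup (H ⧸ kerF f))) 5 (dvd_of_eq hR.symm)
  rw [Subgroup.orderOf_mk] at hr5
  have hRr : zpowers rb = (R : Subgroup (H ⧸ kerF f)) :=
    eq_of_le_of_card_ge (zpowers_le.2 hrR) (by rw [Nat.card_zpowers, hr5]; exact hR.le)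
  set N := normalizer ((R : Subgroup (H ⧸ kerF f)) : Set (H ⧸ kerF f)) with hNd
  obtain ⟨⟨ub, huN⟩, hu2⟩ := exists_prime_orderOf_dvd_card' (G := N) 2 (by rw [hN]; norm_num)
  rw [Subgroup.orderOf_mk] at hu2
  have hub2 : ub ^ 2 = 1 := hu2 ▸ pow_orderOf_eq_one ub
  have huR : ub ∉ (R : Subgroup (H ⧸ kerF f)) := fun h => by
    have := orderOf_dvd_natCard (⟨ub, h⟩ : (R : Subgroup (H ⧸ kerF f)))
    rw [Subgroup.orderOf_mk, hu2, hR] at this
    norm_num at this
  have hrb5 : rb ^ 5 = 1 := hr5 ▸ pow_orderOf_eq_one rb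
  have hinv : ub * rb * ub⁻¹ = rb⁻¹ := by
    have hmem : ub * rb * ub⁻¹ ∈ (R : Subgroup (H ⧸ kerF f)) := (mem_normalizer_iff.1 huN rb).1 hrR
    rw [← hRr, mem_zpowers_iff_mem_range_orderOf, hr5, Finset.mem_image] at hmem
    obtain ⟨k, hk, he⟩ := hmem
    rw [Finset.mem_range] at hk
    have h2 : rb = rb ^ (k * k) := by
      calc rb = ub * ub * rb * (ub * ub)⁻¹ := by rw [← pow_two, hub2]; group
        _ = ub * (ub * rb * ub⁻¹) * ub⁻¹ := by group
        _ = ub * rb ^ k * ub⁻¹ := by rw [he]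
        _ = (ub * rb * ub⁻¹) ^ k := conj_pow.symm
        _ = rb ^ (k * k) := by rw [← he, pow_mul]
    have hkk : k * k % 5 = 1 := by
      have := pow_inj_mod.1 ((pow_one rb).trans h2).symm
      rw [hr5] at this
      omega
    rcases (by omega : k = 0 ∨ k = 1 ∨ k = 2 ∨ k = 3 ∨ k = 4) with rfl | rfl | rfl | rfl | rfl <;>
      try (norm_num at hkk)
    · exfalso
      rw [pow_one] at he
      refine huR ?_
      rw [← hCR, mem_centralizer_iff]
      intro r hr
      rw [SetLike.mem_coe, ← hRr] at hr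
      obtain ⟨n, rfl⟩ := mem_zpowers_iff.1 hr
      exact ((show Commute ub rb from mul_inv_eq_iff_eq_mul.1 he.symm).zpow_right n).symm.eq
    · rw [← he, eq_inv_iff_mul_eq_one, ← pow_succ, hrb5]
  let mk : H →* H ⧸ kerF f := QuotientGroup.mk' (kerF f)
  have hker : ∀ h : H, mk h = 1 ↔ (h : G) ∈ zpowers f := fun h => by
    rw [QuotientGroup.mk'_apply, QuotientGroup.eq_one_iff, kerF, mem_subgroupOf]
  have hz5 : ∀ w : G, w ∈ zpowers f → w ^ 5 = 1 := fun w hw => by
    obtain ⟨k, rfl⟩ := mem_zpowers_iff.1 hw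
    rw [← zpow_natCast, ← zpow_mul, mul_comm, zpow_mul, zpow_natCast, F.five, one_zpow]
  obtain ⟨u0, hu0⟩ := QuotientGroup.mk'_surjective (kerF f) ub
  obtain ⟨r0, hr0⟩ := QuotientGroup.mk'_surjective (kerF f) rb
  have huim : mk (u0 ^ 5) = ub := by
    rw [map_pow]
    show (mk u0) ^ 5 = ub
    rw [show mk u0 = ub from hu0, show (5 : ℕ) = 2 * 2 + 1 from rfl, pow_succ, pow_mul, hub2, one_pow, one_mul]
  obtain ⟨u, hud⟩ : ∃ u, u = u0 ^ 5 := ⟨_, rfl⟩
  rw [← hud] at huim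
  have huu : u * u = 1 := by
    refine Subtype.ext ?_
    have h := hz5 _ ((hker (u0 ^ 2)).1 (by rw [map_pow, show mk u0 = ub from hu0, hub2]))
    rw [Subgroup.coe_pow, ← pow_mul] at h
    rw [Subgroup.coe_mul, hud, Subgroup.coe_pow, ← pow_add]
    exact h
  obtain ⟨y, hyd⟩ : ∃ y, y = u * r0 * u⁻¹ := ⟨_, rfl⟩
  have hy : mk y = rb⁻¹ := by rw [hyd, map_mul, map_mul, map_inv, huim, show mk r0 = rb from hr0, hinv]
  obtain ⟨j, hjd⟩ : ∃ j, j = r0 * y := ⟨_, rfl⟩
  have hj : (j : G) ∈ zpowers f := (hker j).1 (by rw [hjd, map_mul, show mk r0 = rb from hr0, hy, mul_inv_cancel])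
  have hjc : ∀ w : H, w * j = j * w := fun w => Subtype.ext (by
    obtain ⟨k, hk⟩ := mem_zpowers_iff.1 hj
    show (w : G) * j = j * w
    rw [← hk]
    exact ((show Commute (w : G) f from mem_centralizer_singleton_iff.1 w.2).zpow_right k).eq)
  have hyj : y = r0⁻¹ * j := by rw [hjd]; group
  have hry : Commute r0 y := by
    show r0 * y = y * r0
    rw [hyj, mul_inv_cancel_left, mul_assoc, ← hjc r0, inv_mul_cancel_left]
  have hy5 : y ^ 5 = r0 ^ 5 := by
    rw [hyd, conj_pow]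
    have h := (hker (r0 ^ 5)).1 (by rw [map_pow, show mk r0 = rb from hr0, hrb5])
    obtain ⟨k, hk⟩ := mem_zpowers_iff.1 h
    refine mul_inv_eq_iff_eq_mul.2 (Subtype.ext ?_)
    show (u : G) * (r0 ^ 5 : H).1 = (r0 ^ 5 : H).1 * u
    rw [← hk]
    exact ((show Commute (u : G) f from mem_centralizer_singleton_iff.1 u.2).zpow_right k).eq
  obtain ⟨x, hxd⟩ : ∃ x, x = r0 * y⁻¹ := ⟨_, rfl⟩
  have hx : mk x = rb ^ 2 := by rw [hxd, map_mul, map_inv, show mk r0 = rb from hr0, hy, inv_inv, pow_two]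
  have hxu : u * x * u⁻¹ = x⁻¹ := by
    calc u * x * u⁻¹ = u * r0 * u⁻¹ * (u * y * u⁻¹)⁻¹ := by rw [hxd]; group
      _ = y * (u * u * r0 * (u * u)⁻¹)⁻¹ := by rw [← hyd, show u * y * u⁻¹ = u * u * r0 * (u * u)⁻¹ by rw [hyd]; group]
      _ = x⁻¹ := by rw [huu, hxd]; group
  have hx5 : x ^ 5 = 1 := by
    rw [hxd, hry.inv_right.mul_pow, inv_pow, hy5, mul_inv_cancel]
  have hrb2 : rb = (rb ^ 2) ^ 3 := by
    rw [← pow_mul, pow_eq_pow_mod _ hrb5]
    exact (pow_one rb).symm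
  have hRmem : ∀ w : H, mk w ∈ (R : Subgroup (H ⧸ kerF f)) → ∃ i j : ℕ, (w : G) = f ^ i * (x : G) ^ j := by
    intro w hw
    rw [← hRr, mem_zpowers_iff_mem_range_orderOf, hr5, Finset.mem_image] at hw
    obtain ⟨k, -, hk⟩ := hw
    have h1 : mk (w * (x ^ (3 * k))⁻¹) = 1 := by
      rw [map_mul, map_inv, map_pow, hx, pow_mul, ← hrb2, hk, mul_inv_cancel]
    have h2 := (hker _).1 h1
    rw [← F.order] at *
    obtain ⟨i, -, hi⟩ := Finset.mem_image.1 (mem_zpowers_iff_mem_range_orderOf.1 h2)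
    exact ⟨i, 3 * k, by rw [hi]; simp⟩
  refine ⟨x, u, ⟨F.five, congrArg Subtype.val hx5, F.ne_one, mem_centralizer_singleton_iff.1 x.2, ?_,
    congrArg Subtype.val huu, mem_centralizer_singleton_iff.1 u.2, congrArg Subtype.val hxu, ?_, ?_, ?_⟩⟩
  · intro h
    have h1 := (hker x).2 h
    rw [hx] at h1
    rw [hrb2, h1, one_pow, orderOf_one] at hr5
    omega
  · intro h hf hhx
    have hxx : Commute (mk ⟨h, mem_centralizer_singleton_iff.2 hf⟩) (mk x) :=
      ((show Commute (⟨h, mem_centralizer_singleton_iff.2 hf⟩ : H) x from Subtype.ext hhx)).map mk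
    have hmem : mk ⟨h, mem_centralizer_singleton_iff.2 hf⟩ ∈ (R : Subgroup (H ⧸ kerF f)) := by
      rw [← hCR, mem_centralizer_iff]
      intro r hr
      rw [SetLike.mem_coe, ← hRr] at hr
      obtain ⟨n, rfl⟩ := mem_zpowers_iff.1 hr
      rw [hx] at hxx
      have := hxx.pow_right 3
      rw [← hrb2] at this
      exact (this.zpow_right n).symm.eq
    obtain ⟨i, j, e⟩ := hRmem _ hmem
    refine ⟨((i : ZMod 5), (j : ZMod 5)), ?_⟩
    show h = f ^ (i : ZMod 5).val * (x : G) ^ (j : ZMod 5).val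
    rw [← pow_zmod F.five rfl, ← pow_zmod (congrArg Subtype.val hx5 : (x : G) ^ 5 = 1) rfl]
    exact e
  · rintro h hf ⟨v, hv⟩
    obtain ⟨hb, hbd⟩ : ∃ hb : H, hb = ⟨h, mem_centralizer_singleton_iff.2 hf⟩ := ⟨_, rfl⟩
    have hcoe : (hb : G) = h := by rw [hbd]
    have hfH : f ∈ H := mem_centralizer_singleton_iff.2 rfl
    have e1 : hb * x * hb⁻¹ = (⟨f, hfH⟩ : H) ^ v.1.val * x ^ v.2.val :=
      Subtype.ext (by simp only [Subgroup.coe_mul, Subgroup.coe_inv, Subgroup.coe_pow, hcoe]; exact hv)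
    have e2 : mk hb * rb ^ 2 * (mk hb)⁻¹ ∈ (R : Subgroup (H ⧸ kerF f)) := by
      rw [← hx, ← map_inv, ← map_mul, ← map_mul, e1, map_mul, map_pow,
        (hker ⟨f, hfH⟩).2 (mem_zpowers f), one_pow, one_mul, map_pow, hx]
      exact pow_mem (pow_mem hrR _) _
    have hNb : mk hb ∈ N := by
      refine mem_normalizer_iff_map_conj_eq.2 (eq_of_le_of_card_ge ?_ (by
        rw [card_map_of_injective (MulAut.conj (mk hb)).injective]))
      rintro _ ⟨r, hr, rfl⟩
      rw [← hRr, hrb2] at hr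
      obtain ⟨n, rfl⟩ := mem_zpowers_iff.1 hr
      rw [map_zpow, map_pow]
      exact zpow_mem (pow_mem e2 _) _
    have hidx : ((R : Subgroup (H ⧸ kerF f)).subgroupOf N).index = 2 := by
      have h := ((R : Subgroup (H ⧸ kerF f)).subgroupOf N).card_mul_index
      rw [Nat.card_congr (subgroupOfEquivOfLe le_normalizer).toEquiv] at h
      rw [show Nat.card (R : Subgroup (H ⧸ kerF f)) = 5 from hR, hN] at h
      omega
    have hfix : ∀ w : H, mk w ∈ (R : Subgroup (H ⧸ kerF f)) → (w : G) * x * (w : G)⁻¹ = x := by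
      intro w hw
      obtain ⟨i, k, e⟩ := hRmem w hw
      have hfx : Commute f (x : G) := (mem_centralizer_singleton_iff.1 x.2).symm
      rw [e, ((hfx.pow_left i).mul_left ((Commute.refl (x : G)).pow_left k)).eq, mul_inv_cancel_right]
    by_cases hR1 : mk hb ∈ (R : Subgroup (H ⧸ kerF f))
    · left
      exact hcoe ▸ hfix hb hR1
    · right
      have h3 := mul_mem_iff_of_index_two hidx (a := ⟨mk hb, hNb⟩) (b := ⟨ub, huN⟩)
      simp only [mem_subgroupOf, Subgroup.coe_mul] at h3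
      have h4 := hfix (hb * u) (by rw [map_mul, huim]; exact h3.2 (iff_of_false hR1 huR))
      have h5 : (u : G) * (x : G)⁻¹ * (u : G)⁻¹ = x := by
        have := congrArg (fun w : G => w⁻¹) (congrArg Subtype.val hxu)
        simp only [Subgroup.coe_mul, Subgroup.coe_inv, mul_inv_rev, inv_inv, ← mul_assoc] at this
        exact this
      rw [Subgroup.coe_mul, hcoe] at h4
      have h6 : h * ((u : G) * (x : G)⁻¹ * (u : G)⁻¹) * h⁻¹ = (x : G)⁻¹ := by
        calc h * ((u : G) * (x : G)⁻¹ * (u : G)⁻¹) * h⁻¹ = (h * u * x * (h * u)⁻¹)⁻¹ := by group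
          _ = (x : G)⁻¹ := by rw [h4]
      rwa [h5] at h6
  · obtain ⟨c, -, hc⟩ := F.square
    exact ⟨c, hc⟩

end CfsgLib.SuzFive
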