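import Cfsg.Agent.SuzThree.Fuse
import Cfsg.Agent.SuzThree.Pair
import Cfsg.Agent.SuzInvol.Main
import Mathlib.GroupTheory.Perm.Cycle.Type

/-!
An element of order five in the centraliser of the central involution.
-/

set_option autoImplicit false
set_option linter.style.haveILetI false
set_option maxRecDepth 100000

namespace CfsgLib.SuzFive

open CfsgLib CfsgLib.Quad CfsgLib.SuzInvol CfsgLib.SuzThree Subgroup

/-- A word of order five fixing the hyperbolic pair. -/
def fw : List ℕ := [10, 16, 18, 32]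

/-- A word squaring it. -/
def sw : List ℕ := [5, 10, 16, 56]

/-- The powers of the word. -/
def pw5 : ℕ → List ℕ
  | 0 => []
  | n + 1 => fw ++ pw5 n

theorem fw_facts : (okL fw = true ∧ okL sw = true ∧ sameW (pw5 5) [] = true ∧ sameW fw [] = false ∧
      sameW (sw ++ fw) (fw ++ fw ++ sw) = true ∧ okL [5] = true ∧ (∀ i : Fin 5, okL (pw5 i.val) = true)) ∧
    (∀ n : Fin 64, aN fw n.val = n.val → n.val ∈ ([0, 1, 4, 5] : List ℕ)) ∧
    (∀ n ∈ ([0, 1, 4, 5] : List ℕ), aN fw n = n) ∧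
    (qN 1 = false ∧ qN 4 = false ∧ qN 5 = true ∧ qN 0 = false ∧ qN 16 = true) ∧
    (∀ n : Fin 64, qN n.val = true → bN n.val 1 = false → bN n.val 4 = false →
      bN n.val (aN fw n.val) = true → ∃ i : Fin 5, aN (pw5 i.val) 16 = n.val) ∧
    (bN 16 1 = false ∧ bN 16 4 = false ∧ bN 16 (aN fw 16) = true ∧ bN 1 4 = true) ∧
    (∀ i : Fin 5, aN (pw5 i.val) 1 = 1 ∧ aN (pw5 i.val) 4 = 4) := by decide +kernel

theorem span_fw : ∀ n : Fin 64, ∃ a b c d e g : ZMod 2, vec n.val = a • vec 1 + b • vec 4 + c • vec 16 +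
    d • vec (aN fw 16) + e • vec (aN (pw5 2) 16) + g • vec (aN (pw5 3) 16) := by decide +kernel

theorem oW_pw5 : ∀ n, oW (pw5 n) = oW fw ^ n
  | 0 => by rw [pw5, oW_nil, pow_zero]
  | n + 1 => by rw [pw5, oW_append, oW_pw5 n, pow_succ']

theorem oW_fw_five : oW fw ^ 5 = 1 := by
  rw [← oW_pw5, ← oW_nil]
  exact oW_eq (by decide +kernel) rfl fw_facts.1.2.2.1

theorem bN_iff {h : O6} {n k m l : ℕ} (hn : n < 64) (hk : k < 64) (hm : m < 64) (hl : l < 64)
    (e1 : h.1 (vec n) = vec m) (e2 : h.1 (vec k) = vec l) : bN m l = bN n k := by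
  have h2 := bf_oGroup h (vec n) (vec k)
  rw [e1, e2, bf_vec ⟨n, hn⟩ ⟨k, hk⟩, bf_vec ⟨m, hm⟩ ⟨l, hl⟩] at h2
  revert h2
  cases bN m l <;> cases bN n k <;> decide

theorem qN_iff {h : O6} {n m : ℕ} (hn : n < 64) (hm : m < 64) (e : h.1 (vec n) = vec m) : qN m = qN n := by
  have h2 := qf_oGroup h (vec n)
  rw [e, vec_facts.2 ⟨n, hn⟩, vec_facts.2 ⟨m, hm⟩] at h2
  revert h2
  cases qN m <;> cases qN n <;> decide

/-- The centraliser in the commutator subgroup. -/
theorem centOmega {h : O6} (hΩ : h ∈ commutator (oGroup q6)) (hh : h * oW fw = oW fw * h) :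
    ∃ i : Fin 5, h = oW fw ^ i.val := by
  obtain ⟨⟨hok, -, -, -, -, hok5, hokp⟩, hfix, hfix', ⟨q1, q4, q5, q0, q16⟩, hcand, ⟨b161, b164, b16f, b14⟩, hp14⟩ :=
    fw_facts
  have happ : ∀ m, h.1 ((oW fw).1 m) = (oW fw).1 (h.1 m) := fun m => by
    show (h * oW fw).1 m = _
    rw [hh]; rfl
  have hfixed : ∀ n < 64, aN fw n = n → ∀ k < 64, h.1 (vec n) = vec k → k ∈ ([0, 1, 4, 5] : List ℕ) := by
    intro n hn e k hk ek
    refine hfix ⟨k, hk⟩ (vec_inj (aN_lt hok hk) hk ?_)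
    rw [← oW_apply hok hk, ← ek, ← happ, oW_apply hok hn, e]
  obtain ⟨k1, hk1, e1⟩ := exists_code (h.1 (vec 1))
  obtain ⟨k4, hk4, e4⟩ := exists_code (h.1 (vec 4))
  obtain ⟨k16, hk16, e16⟩ := exists_code (h.1 (vec 16))
  have hb14 : bN k1 k4 = true := (bN_iff (by norm_num) (by norm_num) hk1 hk4 e1.symm e4.symm).trans b14
  have hq1 : qN k1 = false := (qN_iff (by norm_num) hk1 e1.symm).trans q1
  have hq4 : qN k4 = false := (qN_iff (by norm_num) hk4 e4.symm).trans q4
  have m1 := hfixed 1 (by norm_num) (hfix' 1 (by decide)) k1 hk1 e1.symm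
  have m4 := hfixed 4 (by norm_num) (hfix' 4 (by decide)) k4 hk4 e4.symm
  have hpair : (k1 = 1 ∧ k4 = 4) ∨ (k1 = 4 ∧ k4 = 1) := by
    simp only [List.mem_cons, List.not_mem_nil, or_false] at m1 m4
    rcases m1 with rfl | rfl | rfl | rfl <;> rcases m4 with rfl | rfl | rfl | rfl <;>
      revert hb14 hq1 hq4 <;> decide
  obtain ⟨i, hi⟩ : ∃ i : Fin 5, aN (pw5 i.val) 16 = k16 := by
    obtain ⟨kf, hkf, ef⟩ := exists_code (h.1 (vec (aN fw 16)))
    have hkfe : kf = aN fw k16 := by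
      refine vec_inj hkf (aN_lt hok hk16) ?_
      rw [ef, ← oW_apply hok (by norm_num : 16 < 64), happ, ← e16, oW_apply hok hk16]
    refine hcand ⟨k16, hk16⟩ ((qN_iff (by norm_num) hk16 e16.symm).trans q16) ?_ ?_ ?_
    · rcases hpair with ⟨x1, x4⟩ | ⟨x1, x4⟩
      · exact x1 ▸ (bN_iff (by norm_num) (by norm_num) hk16 hk1 e16.symm e1.symm).trans b161
      · exact x4 ▸ (bN_iff (by norm_num) (by norm_num) hk16 hk4 e16.symm e4.symm).trans b164
    · rcases hpair with ⟨x1, x4⟩ | ⟨x1, x4⟩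
      · exact x4 ▸ (bN_iff (by norm_num) (by norm_num) hk16 hk4 e16.symm e4.symm).trans b164
      · exact x1 ▸ (bN_iff (by norm_num) (by norm_num) hk16 hk1 e16.symm e1.symm).trans b161
    · have h5 := (bN_iff (by norm_num) (aN_lt hok (by norm_num : 16 < 64)) hk16 hkf e16.symm ef.symm).trans b16f
      rwa [hkfe] at h5
  set g := oW fw ^ i.val with hg
  have gapp : ∀ n < 64, g.1 (vec n) = vec (aN (pw5 i.val) n) := fun n hn => by
    rw [hg, ← oW_pw5, oW_apply (hokp i) hn]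
  have hgc : g * oW fw = oW fw * g := ((Commute.refl (oW fw)).pow_left i.val).eq
  have hag : ∀ (k : ℕ) (_ : k < 4), h.1 (vec (aN (pw5 k) 16)) = g.1 (vec (aN (pw5 k) 16)) := by
    intro k hk
    have hok' := hokp ⟨k, by omega⟩
    simp only at hok'
    rw [← oW_apply hok' (by norm_num : 16 < 64), oW_pw5]
    have c1 : h * oW fw ^ k = oW fw ^ k * h := ((show Commute h (oW fw) from hh).pow_right k).eq
    have c2 : g * oW fw ^ k = oW fw ^ k * g := ((show Commute g (oW fw) from hgc).pow_right k).eq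
    show (h * oW fw ^ k).1 (vec 16) = (g * oW fw ^ k).1 (vec 16)
    rw [c1, c2]
    show (oW fw ^ k).1 (h.1 (vec 16)) = (oW fw ^ k).1 (g.1 (vec 16))
    rw [gapp 16 (by norm_num), hi, e16]
  have key : ∀ u : O6, u.1 (vec 1) = h.1 (vec 1) → u.1 (vec 4) = h.1 (vec 4) →
      (∀ k < 4, u.1 (vec (aN (pw5 k) 16)) = h.1 (vec (aN (pw5 k) 16))) → u = h := by
    intro u u1 u4 uw
    refine Subtype.ext (LinearEquiv.ext fun m => ?_)
    obtain ⟨n, hn, rfl⟩ := exists_code m
    obtain ⟨a, b, c, d, e, f, hv⟩ := span_fw ⟨n, hn⟩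
    have w0' := uw 0 (by norm_num)
    have w1' := uw 1 (by norm_num)
    have w2' := uw 2 (by norm_num)
    have w3' := uw 3 (by norm_num)
    simp only [show aN (pw5 0) 16 = 16 from rfl] at w0'
    rw [show aN (pw5 1) 16 = aN fw 16 from rfl] at w1'
    rw [show vec n = _ from hv]
    simp only [map_add, map_smul, u1, u4, w0', w1', w2', w3']
  rcases hpair with ⟨x1, x4⟩ | ⟨x1, x4⟩
  · refine ⟨i, (key g ?_ ?_ fun k hk => (hag k hk).symm).symm⟩
    · rw [gapp 1 (by norm_num), (hp14 i).1, ← e1, x1]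
    · rw [gapp 4 (by norm_num), (hp14 i).2, ← e4, x4]
  · exfalso
    have hu : oW [5] * g = h := by
      have r5 : ∀ n < 64, (oW [5]).1 (vec n) = vec (aN [5] n) := fun n hn => oW_apply hok5 hn
      have r5fix : ∀ n : Fin 64, bN n.val 5 = false → aN [5] n.val = n.val := by decide +kernel
      refine key _ ?_ ?_ fun k hk => ?_
      · show (oW [5]).1 (g.1 (vec 1)) = _
        rw [gapp 1 (by norm_num), (hp14 i).1, r5 1 (by norm_num), ← e1, x1]; rfl
      · show (oW [5]).1 (g.1 (vec 4)) = _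
        rw [gapp 4 (by norm_num), (hp14 i).2, r5 4 (by norm_num), ← e4, x4]; rfl
      · have hok' := hokp ⟨k, by omega⟩
        simp only at hok'
        have hlt := aN_lt hok' (by norm_num : 16 < 64)
        show (oW [5]).1 (g.1 (vec (aN (pw5 k) 16))) = _
        rw [hag k hk, gapp _ hlt, r5 _ (aN_lt (hokp i) hlt)]
        have horb : ∀ i : Fin 5, ∀ k : Fin 4, bN (aN (pw5 i.val) (aN (pw5 k.val) 16)) 5 = false := by decide +kernel
        rw [r5fix ⟨_, aN_lt (hokp i) hlt⟩ (horb i ⟨k, hk⟩)]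
    have hgΩ : g ∈ commutator (oGroup q6) := by
      rw [hg]; exact pow_mem ((parity_mem hok).2 (by decide)) _
    have := (parity_mem hok5).1 (by
      rw [show oW [5] = h * g⁻¹ by rw [← hu]; group]
      exact mul_mem hΩ (inv_mem hgΩ))
    simp at this

variable {G : Type*} [Group G] [Finite G] {z : G}

/-- The element of order five. -/
structure Five (D : Dat z) (f : G) : Prop where
  mem : f ∈ centralizer ({z} : Set G)
  five : f ^ 5 = 1
  act : actG D f = oW fw

theorem exists_five (D : Dat z) : ∃ f, Five D f := by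
  obtain ⟨c, hc, e⟩ := actG_surj D ((parity_mem fw_facts.1.1).2 (by decide) : oW fw ∈ commutator (oGroup q6))
  have h5 : c ^ 5 ∈ D.Q := (actG_one_iff D (pow_mem hc 5)).1 (by rw [actG_pow D hc, e, oW_fw_five])
  refine ⟨c ^ 256, pow_mem hc _, ?_, ?_⟩
  · rw [← pow_mul, show 256 * 5 = 5 * 128 * 2 by norm_num, pow_mul, pow_mul, pow_Q h5, one_pow]
  · rw [actG_pow D hc, e, show 256 = 5 * 51 + 1 by norm_num, pow_succ, pow_mul, oW_fw_five, one_pow, one_mul]

variable {D : Dat z} {f : G} (F : Five D f)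
include F

theorem Five.ne_one : f ≠ 1 := fun e => by
  have h := F.act
  rw [e, actG_one, ← oW_nil] at h
  have := eq_of_sameW (u := []) (v := fw) rfl fw_facts.1.1 h
  revert this
  decide +kernel

theorem Five.order : orderOf f = 5 := by
  haveI : Fact (Nat.Prime 5) := ⟨Nat.prime_five⟩
  exact orderOf_eq_prime F.five F.ne_one

theorem Five.act_pow (i : ℕ) : actG D (f ^ i) = oW fw ^ i := by rw [actG_pow D F.mem, F.act]

/-- The elements of the radical commuting with it. -/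
theorem Five.comm_iff {q : G} (hq : q ∈ D.Q) :
    f * q = q * f ↔ D.π q ∈ [vec 0, vec 1, vec 4, vec 5] := by
  obtain ⟨n, hn, en⟩ := exists_code (D.π q)
  constructor
  · intro e
    have h := congrArg D.π (show f * q * f⁻¹ = q by rw [e, mul_inv_cancel_right])
    rw [actG_π D F.mem hq, F.act, ← en, oW_apply fw_facts.1.1 hn] at h
    have hm := fw_facts.2.1 ⟨n, hn⟩ (vec_inj (aN_lt fw_facts.1.1 hn) hn h)
    simp only [List.mem_cons, List.not_mem_nil, or_false] at hm
    rw [← en]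
    simp only [List.mem_cons, List.not_mem_nil, or_false]
    rcases hm with e | e | e | e <;> simp [e]
  · intro hm
    have hfix : (actG D f).1 (D.π q) = D.π q := by
      simp only [List.mem_cons, List.not_mem_nil, or_false] at hm
      rcases hm with e | e | e | e <;> rw [e, F.act, oW_apply fw_facts.1.1 (by norm_num), fw_facts.2.2.1 _ (by decide)]
    rcases eq_of_π D hq (conj_mem_Q D F.mem hq) (by rw [actG_π D F.mem hq, hfix]) with e | e
    · exact mul_inv_eq_iff_eq_mul.1 e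
    · exfalso
      have hz : f * z = z * f := mem_centralizer_singleton_iff.1 F.mem
      have step : ∀ k : ℕ, f ^ k * q * (f ^ k)⁻¹ = q * z ^ k := by
        intro k
        induction k with
        | zero => simp
        | succ k ih =>
          calc f ^ (k + 1) * q * (f ^ (k + 1))⁻¹ = f * (f ^ k * q * (f ^ k)⁻¹) * f⁻¹ := by rw [pow_succ']; group
            _ = f * (q * z ^ k) * f⁻¹ := by rw [ih]
            _ = f * q * f⁻¹ * (f * z ^ k * f⁻¹) := by group
            _ = q * z * z ^ k := by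
              rw [e, ((show Commute f z from hz).pow_right k).eq, mul_inv_cancel_right]
            _ = q * z ^ (k + 1) := by rw [mul_assoc, ← pow_succ']
      have h5 := step 5
      have hz5 : z ^ 5 = z := by
        rw [show 5 = 2 * 2 + 1 from rfl, pow_succ, pow_mul, show z ^ 2 = 1 from (pow_two z).trans D.pre.gen.sq, one_pow, one_mul]
      rw [F.five, one_mul, inv_one, mul_one, hz5] at h5
      exact D.pre.gen.ne_one (mul_eq_left.1 h5.symm)

/-- The centraliser in the centraliser of the involution. -/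
theorem Five.cent {x : G} (hx : x ∈ centralizer ({z} : Set G)) (hxf : x * f = f * x) :
    ∃ i : Fin 5, ∃ q ∈ D.Q, f * q = q * f ∧ x = f ^ i.val * q := by
  obtain ⟨i, hi⟩ := centOmega (actG_mem D) (show actG D x * oW fw = oW fw * actG D x by
    rw [← F.act, ← actG_mul D hx F.mem, ← actG_mul D F.mem hx, hxf])
  refine ⟨i, (f ^ i.val)⁻¹ * x, ?_, ?_, by group⟩
  · have hm := pow_mem F.mem i.val
    refine (actG_one_iff D (mul_mem (inv_mem hm) hx)).1 ?_
    rw [actG_mul D (inv_mem hm) hx, actG_inv D hm, F.act_pow, hi, inv_mul_cancel]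
  · exact ((Commute.refl f).pow_right i.val).inv_right.mul_right (show Commute f x from hxf.symm) |>.eq

/-- The square is conjugate to it in the centraliser. -/
theorem Five.square : ∃ c ∈ centralizer ({z} : Set G), c * f * c⁻¹ = f ^ 2 := by
  classical
  haveI : Fact (Nat.Prime 5) := ⟨Nat.prime_five⟩
  haveI : Fintype D.Q := Fintype.ofFinite _
  obtain ⟨⟨hok, hoks, -, -, hsq, -, -⟩, -⟩ := fw_facts
  obtain ⟨c, hc, e⟩ := actG_surj D ((parity_mem hoks).2 (by decide) : oW sw ∈ commutator (oGroup q6))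
  obtain ⟨a, had⟩ : ∃ a, a = c * f * c⁻¹ := ⟨_, rfl⟩
  have ha : a ∈ centralizer ({z} : Set G) := had ▸ mul_mem (mul_mem hc F.mem) (inv_mem hc)
  have hf2 := pow_mem F.mem 2
  have hact : actG D a = actG D (f ^ 2) := by
    have e2 : oW sw * oW fw = oW fw * oW fw * oW sw := by
      rw [← oW_append, ← oW_append, ← oW_append]
      exact oW_eq (by rw [okL_append, hoks, hok]; rfl) (by rw [okL_append, okL_append, hoks, hok]; rfl) hsq
    rw [had, actG_mul D (mul_mem hc F.mem) (inv_mem hc), actG_mul D hc F.mem, actG_inv D hc, e, F.act, e2,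
      mul_inv_cancel_right, F.act_pow, pow_two]
  have hab : a * (f ^ 2)⁻¹ ∈ D.Q := (actG_one_iff D (mul_mem ha (inv_mem hf2))).1 (by
    rw [actG_mul D ha (inv_mem hf2), actG_inv D hf2, hact, mul_inv_cancel])
  have hm : ∀ k ∈ D.Q, a * k * (f ^ 2)⁻¹ ∈ D.Q := fun k hk => by
    rw [show a * k * (f ^ 2)⁻¹ = a * k * a⁻¹ * (a * (f ^ 2)⁻¹) by group]
    exact mul_mem (conj_mem_Q D ha hk) hab
  let φ : D.Q → D.Q := fun k => ⟨a * k.1 * (f ^ 2)⁻¹, hm _ k.2⟩
  have a5 : a ^ 5 = 1 := by rw [had, conj_pow, F.five]; group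
  have b5 : (f ^ 2) ^ 5 = 1 := by rw [← pow_mul, show 2 * 5 = 5 * 2 from rfl, pow_mul, F.five, one_pow]
  have hφ5 : ∀ k, φ (φ (φ (φ (φ k)))) = k := fun k => Subtype.ext (by
    show a * (a * (a * (a * (a * k.1 * (f ^ 2)⁻¹) * (f ^ 2)⁻¹) * (f ^ 2)⁻¹) * (f ^ 2)⁻¹) * (f ^ 2)⁻¹ = k.1
    calc _ = a * a * a * a * a * k.1 * ((f ^ 2) ^ 5)⁻¹ := by group
      _ = a ^ 5 * k.1 * ((f ^ 2) ^ 5)⁻¹ := by simp only [pow_succ, pow_zero, one_mul]
      _ = k.1 := by rw [a5, b5, one_mul, inv_one, mul_one])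
  let σ : Equiv.Perm D.Q := ⟨φ, fun k => φ (φ (φ (φ k))), hφ5, hφ5⟩
  obtain ⟨k, hk⟩ := Equiv.Perm.exists_fixed_point_of_prime (p := 5) (n := 1)
    (by rw [← Nat.card_eq_fintype_card, D.card]; norm_num) (σ := σ)
    (Equiv.ext fun k => by
      simp only [pow_one, pow_succ, pow_zero, one_mul, Equiv.Perm.coe_mul, Function.comp_apply, Equiv.Perm.coe_one, id_eq]
      exact hφ5 k)
  have hk' : a * k.1 * (f ^ 2)⁻¹ = k.1 := congrArg Subtype.val hk
  refine ⟨(k : G)⁻¹ * c, mul_mem (inv_mem (SuzInvol.mem_C D k.2)) hc, ?_⟩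
  calc (k : G)⁻¹ * c * f * ((k : G)⁻¹ * c)⁻¹ = (k : G)⁻¹ * a * k := by rw [had]; group
    _ = (k : G)⁻¹ * (a * k * (f ^ 2)⁻¹) * f ^ 2 := by group
    _ = f ^ 2 := by rw [hk']; group

/-- Elements of order five of the centraliser. -/
theorem Five.conj_into (hC : Nat.card (centralizer ({z} : Set G)) = 3317760) {x : G}
    (hx : x ∈ centralizer ({z} : Set G)) (x5 : x ^ 5 = 1) (x1 : x ≠ 1) :
    ∃ c ∈ centralizer ({z} : Set G), c * x * c⁻¹ ∈ zpowers f := by
  haveI : Fact (Nat.Prime 5) := ⟨Nat.prime_five⟩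
  set C := centralizer ({z} : Set G) with hCd
  have hfac : Nat.card (zpowers (⟨f, F.mem⟩ : C)) = 5 ^ (Nat.card C).factorization 5 := by
    rw [Nat.card_zpowers, Subgroup.orderOf_mk, F.order, hC, show (3317760 : ℕ) = 5 * 663552 by norm_num,
      Nat.factorization_mul (by norm_num) (by norm_num), Finsupp.add_apply, Nat.Prime.factorization_self Nat.prime_five,
      Nat.factorization_eq_zero_of_not_dvd (by norm_num)]
    norm_num
  obtain ⟨Q', hQ'⟩ := (IsPGroup.of_card (n := 1) (by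
    rw [Nat.card_zpowers, Subgroup.orderOf_mk, pow_one]; exact orderOf_eq_prime x5 x1) :
    IsPGroup 5 (zpowers (⟨x, hx⟩ : C))).exists_le_sylow
  obtain ⟨c, hc⟩ := MulAction.exists_smul_eq C Q' (Sylow.ofCard (zpowers (⟨f, F.mem⟩ : C)) hfac)
  have hmem : c * (⟨x, hx⟩ : C) * c⁻¹ ∈ zpowers (⟨f, F.mem⟩ : C) := by
    rw [← Sylow.coe_ofCard _ hfac, ← hc, Sylow.coe_subgroup_smul]
    exact ⟨_, hQ' (mem_zpowers _), rfl⟩
  obtain ⟨n, hn⟩ := mem_zpowers_iff.1 hmem
  exact ⟨c, c.2, mem_zpowers_iff.2 ⟨n, congrArg Subtype.val hn⟩⟩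

end CfsgLib.SuzFive
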